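import Mathlib
import Cfsg.Agent.H711.Crit_m3
import Cfsg.Agent.H603.SporElim
import Cfsg.Agent.Prune
set_option linter.all false
prune_inst 0x7f00000000000000000000000000000000000000000000000000000000000000000000000000000000000000000000000000000000000000000000000000000000000000000000000000000000000000003fffffffffffffffffffffffffffbeffbdffffffff
open scoped Cfsg.Agent.FastGrp

/-!
# The weak row for `p = 3` of sporadic groups with `|K|_{3'} = 2 mod 3`
-/

set_option autoImplicit false

open Subgroup

namespace Cfsg.Agent.H711.RowCount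

open Cfsg.Agent.H712.Gmn

universe u

/-- the centre of a finite simple group of composite order -/
theorem center_eq_bot {K : Type*} [Group K] [IsSimpleGroup K] [Finite K] (h : ¬ (Nat.card K).Prime) : center K = ⊥ := by
  rcases (inferInstance : (center K).Normal).eq_bot_or_eq_top with h1 | h1
  · exact h1
  · exfalso
    apply h
    have hc : ∀ a b : K, a * b = b * a := fun a b => by
      have : b ∈ center K := h1 ▸ mem_top b
      exact mem_center_iff.1 this a
    let _ : CommGroup K := { (inferInstance : Group K) with mul_comm := hc }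
    exact IsSimpleGroup.prime_card

theorem row_of_card {K : Type*} [Group K] [IsSimpleGroup K] [Finite K] {n : ℕ} (h : Nat.card K = n) (a m : ℕ)
    (hn : n = 3 ^ a * m) (hm3 : m % 3 = 2) (h4 : 4 ∣ n) : Row 3 K := by
  have : Fact (Nat.Prime 3) := ⟨Nat.prime_three⟩
  refine Row.of_card' (a := a) (m := m) (center_eq_bot ?_) (h.trans hn) ?_ ?_
  · rw [h]
    intro hp
    obtain ⟨c, rfl⟩ := h4
    have h2 : (2 : ℕ) ∣ 4 * c := ⟨2 * c, by ring⟩
    have := (Nat.prime_dvd_prime_iff_eq Nat.prime_two hp).1 h2
    omega
  · omega
  · intro h0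
    have : m % 3 = 1 % 3 := h0
    omega

theorem on {K : Type u} [Group K] [IsSimpleGroup K] [Finite K] (h : Spor.IsoON K) : Row 3 K :=
  row_of_card (NotCT.Orders.on h) 4 5689080320 (by norm_num) (by norm_num) (by norm_num)

theorem fi23 {K : Type u} [Group K] [IsSimpleGroup K] [Finite K] (h : Spor.IsoFi23 K) : Row 3 K :=
  row_of_card (NotCT.Orders.fi23 h) 13 2565020057600 (by norm_num) (by norm_num) (by norm_num)

theorem fi24 {K : Type u} [Group K] [IsSimpleGroup K] [Finite K] (h : Spor.IsoFi24' K) : Row 3 K :=
  row_of_card (NotCT.Orders.fi24 h) 16 29159148014796800 (by norm_num) (by norm_num) (by norm_num)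

theorem b {K : Type u} [Group K] [IsSimpleGroup K] [Finite K] (h : Spor.IsoB K) : Row 3 K :=
  row_of_card (NotCT.Orders.b h) 13 2605984785533688086528000000 (by norm_num) (by norm_num) (by norm_num)

end Cfsg.Agent.H711.RowCount
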