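import Cfsg.Agent.LThreeMB.Row
import Cfsg.Agent.LThreeMB.CoOneFin
import Cfsg.Agent.LThreeM.FiRow_mg
import Cfsg.Agent.H755.CC.Fi24
import Cfsg.Agent.H711.Crit_m3
import Cfsg.Agent.FastGrp
import Cfsg.Agent.Prune
set_option linter.all false
prune_inst 0x7f00000000000000000000000000000000000000000000000000000000000000000000000000000000000000000000000000000000000000000000000000000000000000000000000000000000000000003fffffffffffffffffffffffffffbeffbdffffffff
open scoped Cfsg.Agent.FastGrp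

/-!
# The Monster: central elements of order 3 of a Sylow 3-subgroup are real
-/

set_option autoImplicit false
set_option maxRecDepth 100000

namespace Cfsg.Agent.H711.MonReal

open Cfsg Cfsg.Agent.LThreeMB Cfsg.Agent.H711.Crit
open Cfsg.Agent.MonsterU.Ch
open Cfsg.Agent.MonsterU.Lam2 (L2 IsType)
open Cfsg.Agent.MonsterX Cfsg.Agent.MonsterP Cfsg.Agent.MonsterN Cfsg.Agent.MonsterX.InstData Cfsg.Agent.MonsterX.MainPack
open Cfsg.Spor (Co1)
open Subgroup (centralizer zpowers mem_centralizer_singleton_iff)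

/-- `x` of order 3, `z` of order 3 commuting with `x`, and all centralizers of elements of order 3 in `C(x)/⟨x⟩` are
even: then `C(z)` is even. -/
theorem even_of_XX {G : Type*} [Group G] [Finite G] {x z : G} (hx : x ^ 3 = 1) (hz : z ^ 3 = 1) (hc : z * x = x * z)
    (hXX : ∀ g : XX x, g ^ 3 = 1 → ¬ Odd (Nat.card ↥(centralizer ({g} : Set (XX x))))) :
    ∃ t : G, t * t = 1 ∧ t ≠ 1 ∧ t * x = x * t ∧ t * z = z * t := by
  have : Fact (Nat.Prime 2) := ⟨Nat.prime_two⟩
  have h1 : (mk x hc) ^ 3 = 1 := by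
    rw [mk, ← QuotientGroup.mk_pow, QuotientGroup.eq_one_iff]
    have : (⟨z, mem_centralizer_singleton_iff.2 hc⟩ : ↥(centralizer ({x} : Set G))) ^ 3 = 1 := Subtype.ext hz
    rw [this]
    exact one_mem _
  have h2 : 2 ∣ Nat.card ↥(centralizer ({mk x hc} : Set (XX x))) := by
    rw [← even_iff_two_dvd, ← Nat.not_odd_iff_even]
    exact hXX _ h1
  obtain ⟨⟨u, hu⟩, hu2⟩ := exists_prime_orderOf_dvd_card' 2 h2
  obtain ⟨s, hs, rfl⟩ := exists_mk u
  have hord : orderOf (mk x hs) = 2 := by rw [← hu2, Subgroup.orderOf_mk]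
  have hcomm : mk x hs * mk x hc = mk x hc * mk x hs := mem_centralizer_singleton_iff.1 hu
  have hxc : ∀ i : ℤ, x ^ i * x = x * x ^ i := fun i => (Commute.refl x).zpow_left i
  -- the lift
  have hss : s ^ 2 ∈ zpowers x := by
    have h3 : (mk x hs) ^ 2 = 1 := by rw [← hord, pow_orderOf_eq_one]
    rw [mk, ← QuotientGroup.mk_pow, QuotientGroup.eq_one_iff] at h3
    obtain ⟨i, hi⟩ := h3
    exact ⟨i, congrArg Subtype.val hi⟩
  obtain ⟨i, hi⟩ := hss
  have hi' : x ^ i = s ^ 2 := hi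
  have hsx : Commute s x := hs
  have htt : s ^ 3 * s ^ 3 = 1 := by
    have e : s ^ 3 * s ^ 3 = (s ^ 2) ^ 3 := by rw [← pow_add, ← pow_mul]
    rw [e, ← hi', ← zpow_natCast, ← zpow_mul, mul_comm, zpow_mul]
    have : x ^ ((3 : ℕ) : ℤ) = 1 := by rw [zpow_natCast]; exact hx
    rw [this, one_zpow]
  have hne : s ^ 3 ≠ 1 := by
    intro h0
    have h3 : (mk x hs) ^ 3 = 1 := by
      rw [mk, ← QuotientGroup.mk_pow, QuotientGroup.eq_one_iff]
      have : (⟨s, mem_centralizer_singleton_iff.2 hs⟩ : ↥(centralizer ({x} : Set G))) ^ 3 = 1 := Subtype.ext h0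
      rw [this]
      exact one_mem _
    have h4 := orderOf_dvd_of_pow_eq_one h3
    rw [hord] at h4
    revert h4; decide
  have htx : s ^ 3 * x = x * s ^ 3 := hsx.pow_left 3
  refine ⟨s ^ 3, htt, hne, htx, ?_⟩
  -- `t z t⁻¹ = z x^j`
  have h5 : (mk x hs) ^ 3 * mk x hc = mk x hc * (mk x hs) ^ 3 := (Commute.pow_left (hcomm : Commute _ _) 3)
  have h6 : ∃ j : ℤ, x ^ j = z⁻¹ * (s ^ 3 * z * (s ^ 3)⁻¹) := by
    have h7 : (mk x hc)⁻¹ * ((mk x hs) ^ 3 * mk x hc * ((mk x hs) ^ 3)⁻¹) = 1 := by rw [h5]; group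
    rw [mk, mk, ← QuotientGroup.mk_pow, ← QuotientGroup.mk_inv, ← QuotientGroup.mk_inv, ← QuotientGroup.mk_mul,
      ← QuotientGroup.mk_mul, ← QuotientGroup.mk_mul, QuotientGroup.eq_one_iff] at h7
    obtain ⟨j, hj⟩ := h7
    exact ⟨j, congrArg Subtype.val hj⟩
  obtain ⟨j, hj⟩ := h6
  set t := s ^ 3 with ht
  have hj1 : t * z * t⁻¹ = z * x ^ j := by rw [hj]; group
  have htxj : Commute t (x ^ j) := (show Commute t x from htx).zpow_right j
  have hj2 : t * (t * z * t⁻¹) * t⁻¹ = z * x ^ j * x ^ j := by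
    rw [hj1]
    calc t * (z * x ^ j) * t⁻¹ = (t * z * t⁻¹) * (t * x ^ j * t⁻¹) := by group
      _ = z * x ^ j * x ^ j := by rw [hj1, htxj.eq, mul_inv_cancel_right]
  have hj3 : t * (t * z * t⁻¹) * t⁻¹ = z := by
    have hti : t⁻¹ = t := inv_eq_of_mul_eq_one_left htt
    calc t * (t * z * t⁻¹) * t⁻¹ = (t * t) * z * (t * t)⁻¹ := by group
      _ = z := by rw [htt]; group
  have hj4 : x ^ j * x ^ j = 1 := by
    have := hj2.symm.trans hj3
    rw [mul_assoc] at this
    exact mul_eq_left.1 this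
  have hj5 : x ^ j = 1 := by
    have h8 : (x ^ j) ^ 3 = 1 := by
      rw [← zpow_natCast, ← zpow_mul, mul_comm, zpow_mul, zpow_natCast, hx, one_zpow]
    calc x ^ j = (x ^ j) ^ 3 := by rw [h8]; rw [pow_succ, pow_two, hj4, one_mul] at h8; exact h8
      _ = 1 := h8
  rw [hj5, mul_one] at hj1
  exact mul_inv_eq_iff_eq_mul.1 hj1

theorem fr_inv (s : Co1) : fr s⁻¹ = fr s := by
  unfold fr
  refine Nat.card_congr (Equiv.subtypeEquivRight fun v => ?_)
  rw [inv_smul_eq_iff]
  exact eq_comm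

/-- all elements of order 3 of `Co1` are real -/
theorem co1_real (I : CoOne) {s : Co1} (hs : orderOf s = 3) : IsConj s s⁻¹ := by
  have hi : orderOf s⁻¹ = 3 := by rw [orderOf_inv, hs]
  rw [isConj_iff]
  rcases I.ranks s hs with h | h | h | h
  · exact LThreeCo1.Ranks.zero s s⁻¹ hs hi h ((fr_inv s).trans h)
  · exact I.six s s⁻¹ hs hi h ((fr_inv s).trans h)
  · exact I.eight s s⁻¹ hs hi h ((fr_inv s).trans h)
  · exact I.twelve s s⁻¹ hs hi h ((fr_inv s).trans h)

section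
variable {G : Type*} [Group G] {Q : Subgroup G} {z : G} {eta : G → L2}
  {pi : Subgroup.centralizer ({z} : Set G) →* Co1}

theorem real_of_chart (h : Chart Q z eta pi) (I : CoOne) {x : centralizer ({z} : Set G)} (hx : orderOf x = 3) :
    IsConj (x : G) (x : G)⁻¹ := by
  have h1 : x ^ 3 = 1 := by rw [← hx, pow_orderOf_eq_one]
  obtain ⟨s, hs⟩ := isConj_iff.1 (co1_real I (orderOf_pi h hx))
  obtain ⟨c, hc⟩ := exists_conj_of_conj h h1 (y := x⁻¹) (by rw [inv_pow, h1, inv_one]) (by rw [hs, map_inv])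
  exact isConj_iff.2 ⟨c, congrArg Subtype.val hc⟩

theorem real_of_comm (h : Chart Q z eta pi) (I : CoOne) {x : G} (hx : orderOf x = 3) {g : G}
    (hg : (g * z * g⁻¹) * x = x * (g * z * g⁻¹)) : IsConj x x⁻¹ := by
  have h1 : (g⁻¹ * x * g) * z = z * (g⁻¹ * x * g) := by
    calc (g⁻¹ * x * g) * z = g⁻¹ * (x * (g * z * g⁻¹)) * g := by group
      _ = g⁻¹ * ((g * z * g⁻¹) * x) * g := by rw [hg]
      _ = z * (g⁻¹ * x * g) := by group
  let x' : centralizer ({z} : Set G) := ⟨g⁻¹ * x * g, mem_centralizer_singleton_iff.2 h1⟩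
  have h3 : g * (x' : G) * g⁻¹ = x := by
    show g * (g⁻¹ * x * g) * g⁻¹ = x
    group
  have hx' : orderOf x' = 3 := by
    rw [← Subgroup.orderOf_coe, ← hx, ← h3]
    exact (orderOf_injective (MulAut.conj g).toMonoidHom (MulAut.conj g).injective (x' : G)).symm
  have h4 := real_of_chart h I hx'
  have h5 : IsConj (x' : G) x := isConj_iff.2 ⟨g, h3⟩
  have h6 : IsConj (x' : G)⁻¹ x⁻¹ := by
    rw [isConj_iff] at h5 ⊢
    obtain ⟨c, hc⟩ := h5
    exact ⟨c, by rw [← hc]; group⟩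
  exact (h5.symm.trans h4).trans h6

/-- the fixed rank 12 -/
theorem exists_fi24 [Finite G] [IsSimpleGroup G] (h : Chart Q z eta pi) (I : CoOne) :
    ∃ x : G, orderOf x = 3 ∧ Spor.IsoFi24' (XX x) := by
  obtain ⟨s, hs, hfs, ht, h4⟩ := I.psu
  obtain ⟨x, hx, rfl⟩ := KPair.exists_order_three h hs
  exact ⟨x, by rw [Subgroup.orderOf_coe, hx], iso_fi24 h hx hfs (by rw [hfs]; exact I.twelve) ht h4⟩

end

/-- `even_prime` for every copy of `Fi24'` -/
theorem even_of_iso {K : Type*} [Group K] (h : Spor.IsoFi24' K) {g : K} (hg : g ^ 3 = 1) :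
    ¬ Odd (Nat.card ↥(centralizer ({g} : Set K))) := by
  obtain ⟨e⟩ := h
  have h1 : (e g) ^ 3 = 1 := by rw [← map_pow, hg, map_one]
  have h2 := FiEven.even_prime h1
  have h3 : Nat.card ↥(centralizer ({g} : Set K)) = Nat.card ↥(centralizer ({e g} : Set Spor.Fi24')) := by
    refine Nat.card_congr (e.toEquiv.subtypeEquiv fun a => ?_)
    rw [mem_centralizer_singleton_iff, mem_centralizer_singleton_iff]
    show _ ↔ e a * e g = e g * e a
    rw [← map_mul, ← map_mul, e.injective.eq_iff]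
  rwa [h3]

/-- **the strong form for the model** -/
theorem nn_model : NN 3 ↥InstData.M.G := by
  have := Row.finite_model
  have := Row.simple_model
  have : Fact (Nat.Prime 3) := ⟨Nat.prime_three⟩
  have h := KChart.chart KDone.lft Row.cent
  have I := CoOneFin.coOne
  obtain ⟨x, hx, hF⟩ := exists_fi24 h I
  have hx3 : x ^ 3 = 1 := by rw [← hx, pow_orderOf_eq_one]
  have hp : IsPGroup 3 (zpowers x) := IsPGroup.of_card (n := 1) (by rw [Nat.card_zpowers, hx, pow_one])
  obtain ⟨P, hP⟩ := hp.exists_le_sylow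
  have hxP : x ∈ P := hP (Subgroup.mem_zpowers x)
  -- a central element
  have hne : Nontrivial ↥(P : Subgroup ↥InstData.M.G) := by
    refine ⟨⟨⟨x, hxP⟩, 1, fun h0 => ?_⟩⟩
    have : x = 1 := congrArg Subtype.val h0
    rw [this, orderOf_one] at hx
    norm_num at hx
  have hcn : Nontrivial (Subgroup.center ↥(P : Subgroup ↥InstData.M.G)) := P.isPGroup'.center_nontrivial
  have h3 : 3 ∣ Nat.card (Subgroup.center ↥(P : Subgroup ↥InstData.M.G)) := by
    obtain ⟨n, hn⟩ := (P.isPGroup'.to_subgroup (Subgroup.center ↥(P : Subgroup ↥InstData.M.G))).exists_card_eq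
    rw [hn]
    refine dvd_pow_self 3 fun h0 => ?_
    rw [h0, pow_zero] at hn
    exact (Finite.one_lt_card (α := Subgroup.center ↥(P : Subgroup ↥InstData.M.G))).ne' hn
  obtain ⟨⟨⟨w, hwP⟩, hwc⟩, hw⟩ := exists_prime_orderOf_dvd_card' 3 h3
  rw [Subgroup.orderOf_mk, Subgroup.orderOf_mk] at hw
  have hw3 : w ^ 3 = 1 := by rw [← hw, pow_orderOf_eq_one]
  have hcen : ∀ y ∈ P, y * w = w * y := fun y hy =>
    congrArg Subtype.val (Subgroup.mem_center_iff.1 hwc ⟨y, hy⟩)
  obtain ⟨t, htt, ht1, -, htw⟩ := even_of_XX hx3 hw3 (hcen x hxP).symm fun g hg => even_of_iso hF hg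
  obtain ⟨g, hg⟩ := LThreeM.FiRow.exists_z_of_comm hw3 htt ht1 htw.symm
  have hreal := real_of_comm h I hw hg
  have hw1 : w ≠ 1 := by
    intro h0
    rw [h0, orderOf_one] at hw
    norm_num at hw
  exact NN.of_real (by norm_num) P hwP hw1 hcen hreal

theorem nn_monster : NN 3 Spor.Monster := by
  obtain ⟨f⟩ := Cfsg.Agent.MonsterP.Equiv.equiv
  exact nn_model.congr f.symm

end Cfsg.Agent.H711.MonReal

private theorem dce_46ea8886697d : _root_.True := by
  try have : _root_.True := by simp only [_root_.Cfsg.Agent.LThreeMB.mk.congr_simp]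
  exact _root_.True.intro
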