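import Mathlib
import Cfsg.Agent.H681.GmnTypes
import Cfsg.Agent.Nodes.ChartTypeC
import Cfsg.Agent.Nodes.ChevCls
import Cfsg.Agent.Mrg.ParSys.Fam.D4
import Cfsg.Prelude.Def_LieTypeChar
import Cfsg.Agent.H681.GmnRankOne
import Cfsg.Agent.H711.Crit_m3
import Cfsg.Agent.H711.RowCount
import Cfsg.Agent.H844.PCenter
import Cfsg.Agent.LieClassical.OrthForms
import Cfsg.Agent.S1685
import Cfsg.Agent.S1686
import Cfsg.Agent.SuzThree.Final
import Cfsg.Agent.Cit.ElevenFact
import Cfsg.Agent.H603.SporElim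
import Cfsg.Agent.H711.MonReal
import Cfsg.Agent.S2069
import Cfsg.Agent.S2074
import Cfsg.Agent.S2079
import Cfsg.Agent.S2085
import Cfsg.Agent.H711.BabyRow
import Cfsg.Agent.H840.NormX
import Cfsg.Agent.H830.Type24
import Cfsg.Agent.FastGrp
import Cfsg.Agent.Prune
set_option linter.all false

section
prune_inst 0x7f00000000000000000000000000000000000000000000000000000000000000000000000000000000000000000000000000000000000000000000000000000000000000000000000000000000000000003fffffffffffffffffffffffffffbeffbdffffffff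

-- part: H681/GmnRankTwo
section
set_option linter.all false
open scoped Cfsg.Agent.FastGrp

-- part: H681/GmnSign
section
/-!
# The rows in defining characteristic: torus elements acting on the simple root groups by signs

* `row_of_sign` : `t ∈ T`, `t ≠ 1`, centralises or inverts each `X (sr i)`, and the diagram has no symmetries of `p`-power
  order: `Row p Y`;
* `row_of_cls` : the case of the classical involution of a long root which is not simple.
-/

set_option autoImplicit false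
set_option linter.unusedSectionVars false

namespace Cfsg.Agent.H681.GmnSign

open CoxeterSystem Cfsg.Agent.ChevalleyStructure.CoxeterGeom Cfsg.Agent.Tits.Roots Cfsg.Agent.Tits.Core
  Cfsg.Agent.Tits.RootComb Cfsg.Agent.Tits.Exchange Cfsg.Agent.Nodes.Reps Cfsg.Agent.Nodes.BNOf
  Cfsg.Agent.Nodes.Comb
  Cfsg.Agent.Nodes.StabComb Cfsg.Agent.Nodes.ZFam
  Cfsg.Agent.Nodes.Bruhat Cfsg.Agent.Nodes.OppDec Cfsg.Agent.Nodes.LeviDec Cfsg.Agent.Nodes.NormalForm
  Cfsg.Agent.KFacts.RgdOpp Cfsg.Agent.KFacts.RgdAut Cfsg.Agent.KFacts.RgdDiag Cfsg.Agent.KFacts.RgdRigid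
  Cfsg.Agent.H142.GmnPC Cfsg.Agent.H681.GmnRgd
open scoped commutatorElement Pointwise

variable {I W Y : Type*} [Fintype I] [DecidableEq I] [Group W] [Group Y] {M : CoxeterMatrix I}
  {cs : CoxeterSystem M W} {A : I → I → ℤ} {h : IsCartan M A} {p : ℕ} {T : Subgroup Y} {n : I → Y}
  {X : (I → ℤ) → Subgroup Y}

/-- the diagram has no symmetries of `p`-power order -/
def AllRigid (p : ℕ) {I : Type*} (M : CoxeterMatrix I) : Prop :=
  ∀ σ : Equiv.Perm I, (∀ a b, M (σ a) (σ b) = M a b) → (∃ k : ℕ, σ ^ p ^ k = 1) → σ = 1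

theorem allRigid_two {p : ℕ} (hp : p.Prime) (hp2 : p ≠ 2) (M : CoxeterMatrix (Fin 2)) : AllRigid p M := by
  rintro σ - ⟨k, hk⟩
  have h1 : ∀ a : Fin 2, a = 0 ∨ a = 1 := by decide
  have h2 := GmnTypes.fix_of_two hp hp2 hk (c := 0) (c' := 1) (h1 _) (h1 _)
  have h3 := GmnTypes.fix_of_two hp hp2 hk (c := 1) (c' := 0) (h1 _).symm (h1 _).symm
  ext a
  rcases h1 a with rfl | rfl
  · rw [h2]; rfl
  · rw [h3]; rfl

section Main

variable [Finite W] [Finite Y] [hp : Fact p.Prime] (R : RGD cs h p T n X)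

include R

theorem row_of_sign (hG1 : RGD.Sup X {x | IsRoot cs h x} = ⊤) (hZ : Subgroup.center Y = ⊥) (hM : AllRigid p M)
    {t : Y} (ht : t ∈ T) (ht1 : t ≠ 1)
    (hs : ∀ i, (∀ x ∈ X (sr i), t * x * t⁻¹ = x) ∨ (∀ x ∈ X (sr i), t * x * t⁻¹ = x⁻¹)) : Row p Y := by
  have hG := GG_eq_top (T := T) hG1
  refine row_of_fixed R hG1 hZ fun E hE hEF => ⟨t, ht, ht1, fun β hβ => ?_⟩
  obtain ⟨hU, hUN⟩ := mem_Frame.1 (hEF hβ)
  obtain ⟨σ, D⟩ := exists_diag R hG hU hUN
  have hσ : σ = 1 := by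
    obtain ⟨k, hk⟩ := hE ⟨β, hβ⟩
    have hk' : β ^ p ^ k = 1 := congrArg Subtype.val hk
    refine hM σ (D.matrix R) ⟨k, ?_⟩
    ext a
    have hD := D.pow (p ^ k)
    rw [hk'] at hD
    obtain ⟨u, hu, hu1⟩ := exists_ne_one R a
    exact Diag.apply_eq R hD hu hu1 rfl
  subst hσ
  have hβt : β t ∈ T := (D.tor t).2 ht
  have key : ∀ i, ∀ x ∈ X (sr i), β t * x * (β t)⁻¹ = t * x * t⁻¹ := by
    intro i x hx
    have hx' : β⁻¹ x ∈ X (sr i) := by
      have := (D.pos i (β⁻¹ x)).1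
      rw [Equiv.Perm.one_apply, MulAut.apply_inv_self] at this
      exact this hx
    have e : β t * x * (β t)⁻¹ = β (t * β⁻¹ x * t⁻¹) := by
      rw [map_mul, map_mul, map_inv, MulAut.apply_inv_self]
    rw [e]
    rcases hs i with h1 | h1
    · rw [h1 _ hx', h1 _ hx, MulAut.apply_inv_self]
    · rw [h1 _ hx', h1 _ hx, map_inv, MulAut.apply_inv_self]
  have h1 : t⁻¹ * β t = 1 := by
    refine eq_one_of_cent R hG1 hZ (mul_mem (inv_mem ht) hβt) fun i x hx => ?_
    have e : t⁻¹ * β t * x * (t⁻¹ * β t)⁻¹ = t⁻¹ * (β t * x * (β t)⁻¹) * t := by group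
    rw [e, key i x hx]
    group
  rw [inv_mul_eq_one] at h1
  exact h1.symm

end Main

/-- **classical involutions of long roots which are not simple** -/
theorem row_of_cls [Fintype W] [Finite Y] [hp : Fact p.Prime] (hp2 : p ≠ 2) {R : Set (I → ℤ)}
    {Z : (I → ℤ) → Subgroup Y} {z : (I → ℤ) → Y} (C : Nodes.Chart.Cls cs h p T n X R Z z)
    (hG1 : RGD.Sup X {x | IsRoot cs h x} = ⊤) (hZ : Subgroup.center Y = ⊥) (hM : AllRigid p M) {r : I → ℤ}
    (hr : r ∈ R) (hnr : -r ∈ R) (hri : ∀ i, sr i ≠ r ∧ sr i ≠ -r) : Row p Y := by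
  have hinv : ∀ i, form cs h (sr i) r ≠ 0 → ∀ x ∈ X (sr i), z r * x * (z r)⁻¹ = x⁻¹ := by
    intro i hf x hx
    rw [inv_eq_of_mul_eq_one_right (C.z_sq r hr)]
    exact C.z_inv r hr _ (isRoot_sr cs h i) (hri i).1 (hri i).2 hf x hx
  refine row_of_sign C.rgd hG1 hZ hM (C.z_torus r hr) ?_ fun i => ?_
  · intro h1
    obtain ⟨i, hi⟩ : ∃ i, form cs h (sr i) r ≠ 0 := by
      by_contra hcon
      push Not at hcon
      have h2 := form_pos cs (h := h) (C.root r hr).ne_zero
      rw [form_eq_sum, Finset.sum_eq_zero fun k _ => by rw [form_comm, hcon k, mul_zero]] at h2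
      exact lt_irrefl _ h2
    obtain ⟨w, hw, hw1⟩ := exists_ne_one C.rgd i
    have h2 := hinv i hi w hw
    rw [h1, one_mul, inv_one, mul_one] at h2
    obtain ⟨m, hm⟩ := C.rgd.pgrp i ⟨w, hw⟩
    have hm' : w ^ p ^ m = 1 := by simpa using congrArg Subtype.val hm
    have h4 : w ^ 2 = 1 := by rw [pow_two]; nth_rewrite 2 [h2]; rw [mul_inv_cancel]
    have hcop : Nat.Coprime 2 (p ^ m) := Nat.Coprime.pow_right _ ((Nat.coprime_primes Nat.prime_two hp.out).2 hp2.symm)
    have h5 : orderOf w = 1 :=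
      Nat.eq_one_of_dvd_coprimes hcop (orderOf_dvd_of_pow_eq_one h4) (orderOf_dvd_of_pow_eq_one hm')
    exact hw1 (orderOf_eq_one_iff.1 h5)
  · by_cases hf : form cs h (sr i) r = 0
    · left
      intro x hx
      have h1 : ∀ b ∈ Z r, x * b = b * x := C.cent r hr _ (isRoot_sr cs h i) hf.ge x hx
      have h2 : ∀ b ∈ Z (-r), x * b = b * x := C.cent (-r) hnr _ (isRoot_sr cs h i) (by
        rw [form_neg_right, hf, neg_zero]) x hx
      have h3 : Z r ⊔ Z (-r) ≤ Subgroup.centralizer {x} := by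
        rw [sup_le_iff]
        exact ⟨fun b hb => Subgroup.mem_centralizer_singleton_iff.2 (h1 b hb).symm,
          fun b hb => Subgroup.mem_centralizer_singleton_iff.2 (h2 b hb).symm⟩
      have h4 := Subgroup.mem_centralizer_singleton_iff.1 (h3 (C.z_mem r hr))
      rw [h4, mul_inv_cancel_right]
    · right
      exact hinv i hf

end Cfsg.Agent.H681.GmnSign
end

-- part: H681/GmnRankTwo
section
/-!
# The rows of the groups of rank two in defining characteristic

* `row_C2` : models on a Witt frame of index two: `PSp_4(q)`, `PSU_4(q)`, `PSU_5(q)`;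
* `row_G2`, `row_twD4`.
-/

set_option autoImplicit false
set_option linter.unusedSectionVars false

namespace Cfsg.Agent.H681.GmnRankTwo

open Cfsg CoxeterSystem Cfsg.Agent.ChevalleyStructure.CoxeterGeom Cfsg.Agent.Tits.Roots Cfsg.Agent.Nodes.TypeC
open Cfsg.Agent.Nodes Cfsg.Agent.Nodes.Comb Cfsg.Agent.Nodes.Reps Cfsg.Agent.Nodes.WittRoot Cfsg.Agent.Nodes.BNOf
open Cfsg.Agent.Nodes.WittRGD Cfsg.Agent.Nodes.RGDLib Cfsg.Agent.Nodes.TypeCForm Cfsg.Agent.Nodes.Chart
open Cfsg.Agent.TitsThree Cfsg.Agent.TitsThree.Siegel Cfsg.Agent.TitsThree.WittFrame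
  Cfsg.Agent.TitsThree.WittWeyl Cfsg.Agent.TitsThree.FrameCN
open Cfsg.Agent.Nodes.ClsMap Cfsg.Agent.Nodes.ClsWitt Cfsg.Agent.Nodes.ChartTypeC
open Cfsg.Agent.H142.GmnPC Cfsg.Agent.H681.GmnRgd Cfsg.Agent.H681.GmnSign

section C2

variable {F : Type*} [Field F] {V : Type*} [AddCommGroup V] [Module F V] {H : HForm F V}
  {Fr : Frame H (Fin 2)} {K : Type*} [Group K] (M : Model Fr K) (hA : Amb Fr M.I)

include hA in
theorem row_C2 [Finite K] [Finite V] {p0 : Fr.Adm} (hp0 : p0.c ≠ 0) (hw0 : p0.w = 0) {p : ℕ} [hp : Fact p.Prime]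
    [CharP F p] (hp2 : p ≠ 2) (hZ : Subgroup.center K = ⊥) : Row p K := by
  have C := cls_model M hA hp0 hw0 (hp.out.odd_of_ne_two hp2) (CoxeterMatrix.B 2).toCoxeterSystem
  have : Finite (CoxeterMatrix.B 2).Group := finite_W (CoxeterMatrix.B 2).toCoxeterSystem
  obtain ⟨x, ex⟩ := exists_long (CoxeterMatrix.B 2).toCoxeterSystem ((0 : Fin 2), true)
  have hx : x ∈ LR 2 := ⟨_, ex⟩
  refine row_of_cls hp2 C (WittModel.G1_eq_top M (by omega) _) hZ (allRigid_two hp.out hp2 _) hx (neg_mem C hx) ?_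
  have key : ∀ i : Fin 2, bt i ≠ wt ((0 : Fin 2), true) + wt ((0 : Fin 2), true) ∧
      bt i ≠ -(wt ((0 : Fin 2), true) + wt ((0 : Fin 2), true)) := by
    intro i
    fin_cases i <;> decide
  intro i
  refine ⟨fun e => (key i).1 ?_, fun e => (key i).2 ?_⟩
  · rw [← ee_sr, e, ex]
  · rw [← ee_sr, e, ee_neg, ex]

end C2

theorem row_PSp_two {F : Type*} [Field F] [Finite F] {p : ℕ} [hp : Fact p.Prime] [CharP F p] (hp2 : p ≠ 2)
    (hZ : Subgroup.center (PSp 2 F) = ⊥) : Row p (PSp 2 F) :=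
  row_C2 (KInstSp.model 2 F) WittU.amb_Sp (p0 := SpIdent.adm 1) one_ne_zero rfl hp2 hZ

open Cfsg.Agent.TitsThree.SiegelGen Cfsg.Agent.TitsThree.WBridge Cfsg.Agent.TitsThree.KSideU
  Cfsg.Agent.TitsThree.KSideUDesc Cfsg.Agent.Nodes.WittU in
theorem row_PSU_two {F : Type*} [Field F] [Fintype F] {q N : ℕ} (hF : Fintype.card F = q ^ 2)
    (hN : N = 4 ∨ N = 5) {p : ℕ} [hp : Fact p.Prime] [CharP F p] (hp2 : p ≠ 2)
    (hZ : Subgroup.center (PSU N F q) = ⊥) : Row p (PSU N F q) := by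
  obtain ⟨W, -⟩ := exists_wframe (m := 2) hF (by omega : N = 2 * 2 ∨ N = 2 * 2 + 1)
  obtain ⟨p0, hp0, hw0⟩ := exists_adm hF W
  exact row_C2 (KInstU.model hF (by omega) W) (amb_U hF W) hp0 hw0 hp2 hZ

section Inv

variable {I W Y : Type*} [Fintype I] [DecidableEq I] [Group W] [Group Y] {M : CoxeterMatrix I}
  {cs : CoxeterSystem M W} {A : I → I → ℤ} {h : IsCartan M A} {p : ℕ} {T : Subgroup Y} {n : I → Y}
  {X : (I → ℤ) → Subgroup Y}

/-- an element inverting `X (sr i)` is not `1` -/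
theorem ne_one_of_inverts [Finite W] [hp : Fact p.Prime] (hp2 : p ≠ 2) (R : RGD cs h p T n X) {t : Y} {i : I}
    (ht : ∀ x ∈ X (sr i), t * x * t⁻¹ = x⁻¹) : t ≠ 1 := by
  intro h1
  obtain ⟨w, hw, hw1⟩ := Bruhat.exists_ne_one R i
  have h2 := ht w hw
  rw [h1, one_mul, inv_one, mul_one] at h2
  obtain ⟨m, hm⟩ := R.pgrp i ⟨w, hw⟩
  have hm' : w ^ p ^ m = 1 := by simpa using congrArg Subtype.val hm
  have h4 : w ^ 2 = 1 := by rw [pow_two]; nth_rewrite 2 [h2]; rw [mul_inv_cancel]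
  have hcop : Nat.Coprime 2 (p ^ m) := Nat.Coprime.pow_right _ ((Nat.coprime_primes Nat.prime_two hp.out).2 hp2.symm)
  have h5 : orderOf w = 1 :=
    Nat.eq_one_of_dvd_coprimes hcop (orderOf_dvd_of_pow_eq_one h4) (orderOf_dvd_of_pow_eq_one hm')
  exact hw1 (orderOf_eq_one_iff.1 h5)

theorem row_of_inv [Finite W] [Finite Y] [hp : Fact p.Prime] (hp2 : p ≠ 2) (R : RGD cs h p T n X)
    (hG1 : RGD.Sup X {x | IsRoot cs h x} = ⊤) (hZ : Subgroup.center Y = ⊥) (hM : AllRigid p M) {t : Y} {r : I → ℤ}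
    (H : ClsInv.Inv cs h T X t r) {i : I} (hi : Odd (Coroot.cpr cs h (sr i) r)) : Row p Y := by
  refine row_of_sign R hG1 hZ hM H.mem (ne_one_of_inverts hp2 R (H.odd _ (isRoot_sr cs h i) hi)) fun j => ?_
  rcases Int.even_or_odd (Coroot.cpr cs h (sr j) r) with h1 | h1
  · exact Or.inl (H.even _ (isRoot_sr cs h j) h1)
  · exact Or.inr (H.odd _ (isRoot_sr cs h j) h1)

end Inv

section G2

open Cfsg.Lie Cfsg.Agent.Nodes.RGDChev

theorem row_G2 {K : Type*} [Field K] [Finite K] {p : ℕ} [CharP K p] (hp2 : p ≠ 2)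
    (hZ : Subgroup.center ↥(chevG2.group K) = ⊥) : Row p ↥(chevG2.group K) := by
  have hp : Fact p.Prime := ⟨CharP.char_is_prime K p⟩
  have hT : IsType chevG2 2 CoxeterMatrix.G₂ := by simp [IsType, typeList]
  have := RGDChev.finite_W hT CoxeterMatrix.G₂.toCoxeterSystem
  refine row_of_inv hp2 (RGDChev.rgd (K := K) hT CoxeterMatrix.G₂.toCoxeterSystem p)
    (RGDChev.G1_eq_top hT _) hZ (allRigid_two hp.out hp2 _) (ChevCls.exists_inv hT _ 0) (i := 1) ?_
  rw [Coroot.cpr_sr, ZFam.pairing_sr']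
  decide +kernel

end G2

section D4

open Cfsg.Lie Cfsg.Agent.Nodes.RGDTwD4 Cfsg.Agent.KFacts.TwDFour.Out Cfsg.Agent.Nodes.RGDFoldSL
  Cfsg.Agent.KFacts.RgdField

theorem row_twD4 {K : Type*} [Field K] [Fintype K] {q : ℕ} (hq : IsPrimePow q) (hK : Fintype.card K = q ^ 3)
    {p : ℕ} [CharP K p] (hp2 : p ≠ 2) (hZ : Subgroup.center ↥(twistedD4 K q) = ⊥) : Row p ↥(twistedD4 K q) := by
  have hp : Fact p.Prime := ⟨CharP.char_is_prime K p⟩
  obtain ⟨φ, hφ⟩ := ChevalleyStructure.D4Fixed.exists_frob hq hK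
  have := Nodes.RGDFold.finite_W (hp := Nodes.RGDTwD4.hp) CoxeterMatrix.G₂.toCoxeterSystem Nodes.RGDTwD4.isCartan
    Nodes.RGDTwD4.foldData
  have R := Nodes.RGDTwD4.rgd CoxeterMatrix.G₂.toCoxeterSystem hK hφ p
  have h1 : (-1 : KD φ 0) ≠ 0 := neg_ne_zero.2 one_ne_zero
  have hc0 := chD_hS hφ hK 0 (-1) h1
  have hc1 := ch01 hφ hK (-1) h1
  have ht := PhiD_hS hφ hK 0 (-1) h1
  have hneg : ∀ x ∈ Nodes.RGDTwD4.X φ q (sr 1), PhiD hφ hK 0 (hS (-1)) * x * (PhiD hφ hK 0 (hS (-1)))⁻¹ = x⁻¹ := by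
    intro x hx
    obtain ⟨a, rfl⟩ := ((coordD hφ hK 1).mem x).1 hx
    rw [(coordD hφ hK 1).act _ ht, eq_inv_iff_mul_eq_one, ← (coordD hφ hK 1).add]
    have h2 : chD hφ hK 1 (PhiD hφ hK 0 (hS (-1))) = -1 := by
      apply Subtype.ext
      rw [hc1]
      simp
    rw [h2, neg_one_mul, neg_add_cancel]
    exact (coordD hφ hK 1).zero
  refine row_of_sign R (Nodes.RGDTwD4.G1_eq_top _ hK hφ) hZ (allRigid_two hp.out hp2 _) ht
    (ne_one_of_inverts hp2 R hneg) fun i => ?_
  fin_cases i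
  · left
    intro x hx
    obtain ⟨a, rfl⟩ := ((coordD hφ hK 0).mem x).1 hx
    rw [(coordD hφ hK 0).act _ ht]
    have h2 : chD hφ hK 0 (PhiD hφ hK 0 (hS (-1))) = 1 := by
      rw [hc0]; simp
    rw [h2, one_mul]
  · exact Or.inr hneg

end D4

end Cfsg.Agent.H681.GmnRankTwo
end
end

-- part: H681/GmnLie
section
set_option linter.all false
open scoped Cfsg.Agent.FastGrp

/-!
# The rows of the groups of Lie type in odd defining characteristic

* `rowS_lie` : `S` simple nonabelian of Lie type in characteristic `p ≠ 2`: `RowS p S`, unless `p = 3` and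
  `S = PSL₂(q)` with `-1` not a square in `F_q`.
-/

set_option autoImplicit false
set_option linter.unusedSectionVars false

namespace Cfsg.Agent.H681.GmnLie

open Cfsg Subgroup Cfsg.Agent.H712.Gmn Cfsg.Agent.H681.GmnTypes Cfsg.Agent.H681.GmnRankTwo
  Cfsg.Agent.H681.GmnRankOne Cfsg.Agent.Omega.ML.Ex.Typ

theorem center_of_equiv {G H : Type*} [Group G] [Group H] (e : G ≃* H) (hZ : center G = ⊥) : center H = ⊥ := by
  rw [Subgroup.eq_bot_iff_forall] at hZ ⊢
  intro x hx
  have h1 : e.symm x ∈ center G := by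
    rw [mem_center_iff] at hx ⊢
    intro g
    apply e.injective
    rw [map_mul, map_mul, e.apply_symm_apply]
    exact hx _
  have h2 := hZ _ h1
  rw [← e.apply_symm_apply x, h2, map_one]

/-- **The rows in odd defining characteristic.** -/
theorem rowS_lie {p : ℕ} [hp : Fact p.Prime] (hp2 : p ≠ 2) {S : Type*} [Group S] [Finite S] (hZ : center S = ⊥)
    (h : IsLieTypeChar p S) : RowS p S ∨ (p = 3 ∧ ∃ (F : Type) (_ : Field F) (_ : Fintype F) (_ : CharP F 3),
      4 ≤ Fintype.card F ∧ ¬ IsSquare (-1 : F) ∧ Nonempty (S ≃* Matrix.ProjectiveSpecialLinearGroup (Fin 2) F)) := by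
  have key : ∀ {l : ℕ} {M : CoxeterMatrix (Fin l)}, Rigid p M → HasRGDT p M S → RowS p S := fun hM hG =>
    rowS_of_row' hZ (row_of_rigid hp.out hp2 hM hZ hG)
  rcases h with h | h | h | h | h | h | h | h | h | h | h
  · obtain ⟨F, _, _, hc, n, hn, h4, ⟨e⟩⟩ := h
    rcases hn.eq_or_lt with h2 | h2
    · subst h2
      have hZ' := center_of_equiv e hZ
      rcases Nat.lt_or_ge p 5 with h5 | h5
      · have h3 : p = 3 := by
          have h6 := hp.out.two_le
          have h7 : p ≠ 4 := by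
            rintro rfl
            exact absurd hp.out (by decide)
          omega
        subst h3
        by_cases hsq : IsSquare (-1 : F)
        · exact Or.inl ((rowS_psl_two_sq hp2 hsq hZ').congr e.symm)
        · exact Or.inr ⟨rfl, F, _, _, hc, h4 rfl, hsq, ⟨e⟩⟩
      · exact Or.inl ((rowS_psl_two_five h5 hZ').congr e.symm)
    · obtain ⟨n, rfl⟩ : ∃ k, n = k + 1 := ⟨n - 1, by omega⟩
      exact Or.inl (key (rigid_A hp.out hp2 (by omega)) ((typ_PSL n).of_equiv e.symm))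
  · obtain ⟨F, _, _, hc, m, hm, -, ⟨e⟩⟩ := h
    rcases hm.eq_or_lt with h2 | h2
    · subst h2
      have hZ' := center_of_equiv e hZ
      have : Finite (PSp 2 F) := Finite.of_equiv S e.toEquiv
      exact Or.inl ((rowS_of_row' hZ' (row_PSp_two hp2 hZ')).congr e.symm)
    · exact Or.inl (key (rigid_B hp.out hp2 (by omega)) ((typ_PSp (by omega)).of_equiv e.symm))
  · obtain ⟨F, _, _, hc, n, q, hF, hn, -, ⟨e⟩⟩ := h
    have hZ' := center_of_equiv e hZ
    have : Finite (PSU n F q) := Finite.of_equiv S e.toEquiv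
    left
    rcases (by omega : n = 3 ∨ (n = 4 ∨ n = 5) ∨ 6 ≤ n) with h2 | h2 | h2
    · subst h2
      exact (rowS_PSU_three hF hp2 hZ').congr e.symm
    · exact (rowS_of_row' hZ' (row_PSU_two hF h2 hp2 hZ')).congr e.symm
    · obtain ⟨m, hm, hG⟩ := typ_PSU (p := p) hF hn
      exact key (rigid_B hp.out hp2 (n := m) (by omega)) (hG.of_equiv e.symm)
  · obtain ⟨F, _, _, hc, m, hm, hodd, ⟨e⟩⟩ := h
    have h2 : (2 : F) ≠ 0 := by
      intro h2
      have h3 : ((2 : ℕ) : F) = 0 := by exact_mod_cast h2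
      rw [CharP.cast_eq_zero_iff F p] at h3
      exact hp2 ((Nat.prime_dvd_prime_iff_eq hp.out Nat.prime_two).1 h3)
    exact Or.inl (key (rigid_B hp.out hp2 (n := m) (by omega))
      ((Cfsg.Agent.H410.Types.typ_PO_odd h2 (by omega)).of_equiv e.symm))
  · obtain ⟨F, _, _, hc, m, hm, ⟨e⟩⟩ := h
    obtain ⟨n, rfl⟩ : ∃ n, m = n + 3 := ⟨m - 3, by omega⟩
    exact Or.inl (key (rigid_D p (n := n) (by omega)) ((typ_PO_plus n).of_equiv e.symm))
  · obtain ⟨F, _, _, hc, m, a, b, hm, hab, ⟨e⟩⟩ := h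
    exact Or.inl (key (rigid_B hp.out hp2 (n := m - 1) (by omega)) ((typ_PO_minus hab (by omega)).of_equiv e.symm))
  · obtain ⟨F, _, _, hc, h⟩ := id h
    rcases h with ⟨-, ⟨e⟩⟩ | ⟨⟨e⟩⟩ | ⟨⟨e⟩⟩ | ⟨⟨e⟩⟩ | ⟨⟨e⟩⟩
    · have hZ' := center_of_equiv e hZ
      have : Finite ↥(Cfsg.Lie.chevG2.group F) := Finite.of_equiv S e.toEquiv
      exact Or.inl ((rowS_of_row' hZ' (row_G2 hp2 hZ')).congr e.symm)
    · exact Or.inl (key (rigid_F4 hp.out hp2) ((typ_group (by simp [Nodes.RGDChev.IsType, Nodes.RGDChev.typeList]) F p).of_equiv e.symm))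
    · exact Or.inl (key (rigid_E6 p) ((typ_group (by simp [Nodes.RGDChev.IsType, Nodes.RGDChev.typeList]) F p).of_equiv e.symm))
    · exact Or.inl (key (rigid_E7 p) ((typ_group (by simp [Nodes.RGDChev.IsType, Nodes.RGDChev.typeList]) F p).of_equiv e.symm))
    · exact Or.inl (key (rigid_E8 p) ((typ_group (by simp [Nodes.RGDChev.IsType, Nodes.RGDChev.typeList]) F p).of_equiv e.symm))
  · obtain ⟨K, _, _, hc, q, hq, ⟨hK, ⟨e⟩⟩ | ⟨hK, ⟨e⟩⟩⟩ := h
    · exact Or.inl (key (rigid_F4 hp.out hp2) ((typ_twE6 hq hK p).of_equiv e.symm))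
    · have hZ' := center_of_equiv e hZ
      have : Finite ↥(Cfsg.Lie.twistedD4 K q) := Finite.of_equiv S e.toEquiv
      exact Or.inl ((rowS_of_row' hZ' (row_twD4 hq hK hp2 hZ')).congr e.symm)
  · exact absurd h.1 hp2
  · exact absurd h.1 hp2
  · obtain ⟨rfl, h⟩ := h
    exact Or.inl (rowS_isoRee h hZ)

end Cfsg.Agent.H681.GmnLie
end

-- part: H711/LieNN
section
set_option linter.all false
open scoped Cfsg.Agent.FastGrp

/-!
# Moving elements in groups of Lie type in characteristic 3 (from `H681.GmnLie`)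
-/

set_option autoImplicit false

open Subgroup

namespace Cfsg.Agent.H711.LieNN

open Cfsg Cfsg.Agent.H711.Crit Cfsg.Agent.H712.Gmn
open Cfsg.Agent.H681.GmnTypes Cfsg.Agent.H681.GmnRankTwo Cfsg.Agent.Omega.ML.Ex.Typ

theorem two_ne : (2 : ZMod 3) ≠ 0 := by decide

/-- `PΩ7(3)` -/
theorem nn_omega7 : NN 3 (POmega (ZMod 3) (quadFormOdd 3 (ZMod 3))) := by
  have : Fact (Nat.Prime 3) := ⟨Nat.prime_three⟩
  have hZ : center (POmega (ZMod 3) (quadFormOdd 3 (ZMod 3))) = ⊥ := by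
    rw [← Cfsg.Agent.LieClassical.OrthForms.coe_oddForm]
    apply H844.PCenter.center_eq_bot
    apply Cfsg.Agent.LieClassical.OrthFinite.good_of_finite
      (Cfsg.Agent.LieClassical.OrthForms.nondeg_oddForm 3 (ZMod 3) two_ne)
    rw [Module.finrank_fintype_fun_eq_card, Fintype.card_sum, Fintype.card_sum, Fintype.card_unit, Fintype.card_fin]
    norm_num
  have hfin : Finite (POmega (ZMod 3) (quadFormOdd 3 (ZMod 3))) := Quotient.finite _
  have h2 : (2 : ZMod 3) ≠ 0 := two_ne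
  exact NN.of_rowS hZ (rowS_of_row' hZ (row_of_rigid Nat.prime_three (by norm_num)
    (rigid_B Nat.prime_three (by norm_num) (n := 3) (by omega)) hZ
      (Cfsg.Agent.H410.Types.typ_PO_odd h2 (by omega))))

/-- `PSU4(3)` -/
theorem nn_psu4 {F : Type*} [Field F] [Fintype F] (hF : Fintype.card F = 9) (hZ : center (PSU 4 F 3) = ⊥) :
    NN 3 (PSU 4 F 3) := by
  have : Fact (Nat.Prime 3) := ⟨Nat.prime_three⟩
  have hc : CharP F 3 := by
    obtain ⟨p, hp⟩ := CharP.exists F
    obtain ⟨n, hp', hn⟩ := FiniteField.card F p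
    rw [hF] at hn
    have h1 : p ∣ 3 ^ 2 := by rw [show 3 ^ 2 = 9 by norm_num, hn]; exact dvd_pow_self p n.pos.ne'
    have h2 := (Nat.prime_dvd_prime_iff_eq hp' Nat.prime_three).1 (hp'.dvd_of_dvd_pow h1)
    rwa [← h2]
  have hfin : Finite (PSU 4 F 3) := Quotient.finite _
  exact NN.of_rowS hZ (rowS_of_row' hZ (row_PSU_two (q := 3) (by rw [hF]; norm_num) (Or.inl rfl) (by norm_num) hZ))

end Cfsg.Agent.H711.LieNN
end

-- part: H711/FiTwoRow
section
set_option linter.all false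
open scoped Cfsg.Agent.FastGrp

/-!
# The strong row for `p = 3`: `Fi22`
-/

set_option autoImplicit false

open Subgroup

namespace Cfsg.Agent.H711.FiTwoRow

open Cfsg Cfsg.Agent.H711.Crit

theorem nn_fi22 : NN 3 Spor.Fi22 := by
  have : Fact (Nat.Prime 3) := ⟨Nat.prime_three⟩
  have hc : Nat.card Spor.Fi22 = 64561751654400 := NotCT.Orders.fi22 ⟨MulEquiv.refl _⟩
  have : Finite Spor.Fi22 := Nat.finite_of_card_ne_zero (by rw [hc]; norm_num)
  obtain ⟨e⟩ := S1686.result
  have h1 := LieNN.nn_omega7.congr e.symm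
  refine NN.of_subgroup _ ?_ h1
  rw [S1685.result]
  norm_num

end Cfsg.Agent.H711.FiTwoRow
end

-- part: H711/SuzRow
section
set_option linter.all false
open scoped Cfsg.Agent.FastGrp

/-!
# The strong row for `p = 3`: `M11` and `Suz`
-/

set_option autoImplicit false

open Subgroup

namespace Cfsg.Agent.H711.SuzRow

open Cfsg Cfsg.Agent.H711.Crit

/-- a simple group with a Sylow 3-subgroup of order 9 -/
theorem nn_of_nine {K : Type*} [Group K] [Finite K] [IsSimpleGroup K] {m : ℕ} (h : Nat.card K = 9 * m) (hm : ¬ 3 ∣ m) :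
    NN 3 K := by
  have : Fact (Nat.Prime 3) := ⟨Nat.prime_three⟩
  obtain ⟨Q⟩ : Nonempty (Sylow 3 K) := inferInstance
  have h1 : Nat.card (Q : Subgroup K) = 3 ^ 2 := by
    have hm0 : m ≠ 0 := fun h0 => hm (by rw [h0]; exact dvd_zero 3)
    rw [Q.card_eq_multiplicity, h, Nat.factorization_mul (by norm_num) hm0, Finsupp.add_apply,
      Nat.factorization_eq_zero_of_not_dvd hm, show 9 = 3 ^ 2 by norm_num, Nat.Prime.factorization_pow Nat.prime_three,
      Finsupp.single_eq_same]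
  refine NN.of_abelian ?_ ?_ Q fun a ha b hb => ?_
  · rw [h]; exact ⟨3 * m, by ring⟩
  · rw [h]; omega
  · have := (IsPGroup.isMulCommutative_of_card_eq_prime_sq h1).is_comm.comm (⟨a, ha⟩ : (Q : Subgroup K)) ⟨b, hb⟩
    exact congrArg Subtype.val this

theorem nn_m11 {K : Type*} [Group K] (h : Spor.IsoM11 K) : NN 3 K := by
  have hc := NotCT.Orders.m11 h
  have : Finite K := Nat.finite_of_card_ne_zero (by rw [hc]; norm_num)
  have : IsSimpleGroup K := Cit.ElevenFact.simple h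
  exact nn_of_nine (m := 880) hc (by norm_num)

theorem nn_suz : NN 3 Spor.Suz := by
  have : Fact (Nat.Prime 3) := ⟨Nat.prime_three⟩
  have hc : Nat.card Spor.Suz = 448345497600 := NotCT.Orders.suz ⟨MulEquiv.refl _⟩
  have : Finite Spor.Suz := Nat.finite_of_card_ne_zero (by rw [hc]; norm_num)
  obtain ⟨h1, h2, h3, h4, h5⟩ := Cfsg.Agent.SuzThree.Final.transport (MulEquiv.refl Spor.Suz)
  set A := Cfsg.Agent.SuzThree.Elementary.A0.map (MulEquiv.refl Spor.Suz).toMonoidHom with hA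
  have h6 : NN 3 ↥(normalizer (A : Set Spor.Suz)) :=
    NN.of_surjective (QuotientGroup.mk' (A.subgroupOf (normalizer (A : Set Spor.Suz)))) (QuotientGroup.mk'_surjective _)
      (nn_m11 h5)
  refine NN.of_subgroup (normalizer (A : Set Spor.Suz)) ?_ h6
  have h7 : Nat.card ↥(normalizer (A : Set Spor.Suz)) = 7920 * 3 ^ 5 := by
    rw [Subgroup.card_eq_card_quotient_mul_card_subgroup (A.subgroupOf (normalizer (A : Set Spor.Suz))),
      NotCT.Orders.m11 h5, Nat.card_congr (subgroupOfEquivOfLe le_normalizer).toEquiv, h2]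
  have h8 := (normalizer (A : Set Spor.Suz)).card_mul_index
  rw [h7, hc] at h8
  intro h9
  obtain ⟨c, hc'⟩ := h9
  rw [hc'] at h8
  omega

end Cfsg.Agent.H711.SuzRow
end

-- part: H711/RowsA
section
set_option linter.all false
open scoped Cfsg.Agent.FastGrp

/-!
# The strong rows for `p = 3`: `M`, `Co1`, `Suz`, `Fi22`
-/

set_option autoImplicit false

open Subgroup

namespace Cfsg.Agent.H711.RowsA

open Cfsg Cfsg.Agent.H711.Crit Cfsg.Agent.H712.Gmn

universe u

/-- from the standard copy to all copies -/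
theorem row_of {S : Type} [Group S] [Finite S] {K : Type u} [Group K] [IsSimpleGroup K] (e : K ≃* S)
    (hc : ¬ (Nat.card S).Prime) {n : ℕ} (hOut : Nat.card (Out S) = n) (hn : n % 3 ≠ 0) (h : NN 3 S) : RowS 3 K := by
  have : Fact (Nat.Prime 3) := ⟨Nat.prime_three⟩
  have : IsSimpleGroup S := e.isSimpleGroup_congr.1 inferInstance
  refine (rowS_of_NN (RowCount.center_eq_bot hc) ?_ h).congr e.symm
  intro h0
  have h1 : 3 ∣ Nat.card (Out S) := h0
  rw [hOut] at h1
  omega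

theorem not_prime {n : ℕ} (h : 4 ∣ n) : ¬ n.Prime := by
  intro hp
  obtain ⟨c, rfl⟩ := h
  have h2 : (2 : ℕ) ∣ 4 * c := ⟨2 * c, by ring⟩
  have := (Nat.prime_dvd_prime_iff_eq Nat.prime_two hp).1 h2
  omega

theorem m {K : Type u} [Group K] [IsSimpleGroup K] (h : Spor.IsoM K) : RowS 3 K := by
  have hc : Nat.card Spor.Monster = _ := NotCT.Orders.m ⟨MulEquiv.refl _⟩
  have : Finite Spor.Monster := Nat.finite_of_card_ne_zero (by rw [hc]; norm_num)
  obtain ⟨e⟩ := h
  exact row_of e (not_prime (by rw [hc]; norm_num)) S2085.result (by norm_num) MonReal.nn_monster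

theorem suz {K : Type u} [Group K] [IsSimpleGroup K] (h : Spor.IsoSuz K) : RowS 3 K := by
  have hc : Nat.card Spor.Suz = _ := NotCT.Orders.suz ⟨MulEquiv.refl _⟩
  have : Finite Spor.Suz := Nat.finite_of_card_ne_zero (by rw [hc]; norm_num)
  obtain ⟨e⟩ := h
  exact row_of e (not_prime (by rw [hc]; norm_num)) S2074.result (by norm_num) SuzRow.nn_suz

theorem fi22 {K : Type u} [Group K] [IsSimpleGroup K] (h : Spor.IsoFi22 K) : RowS 3 K := by
  have hc : Nat.card Spor.Fi22 = _ := NotCT.Orders.fi22 ⟨MulEquiv.refl _⟩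
  have : Finite Spor.Fi22 := Nat.finite_of_card_ne_zero (by rw [hc]; norm_num)
  obtain ⟨e⟩ := h
  exact row_of e (not_prime (by rw [hc]; norm_num)) S2079.result (by norm_num) FiTwoRow.nn_fi22

theorem co1 {K : Type u} [Group K] [IsSimpleGroup K] (h : Spor.IsoCo1 K) : RowS 3 K := by
  have : Fact (Nat.Prime 3) := ⟨Nat.prime_three⟩
  have hc : Nat.card Spor.Co1 = _ := NotCT.Orders.co1 ⟨MulEquiv.refl _⟩
  have : Finite Spor.Co1 := Nat.finite_of_card_ne_zero (by rw [hc]; norm_num)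
  obtain ⟨e⟩ := h
  have : IsSimpleGroup Spor.Co1 := e.isSimpleGroup_congr.1 inferInstance
  refine (RowS.of_real (by norm_num) (RowCount.center_eq_bot (not_prime (by rw [hc]; norm_num)))
    (by rw [hc]; norm_num) fun z hz1 hz => ?_).congr e.symm
  exact MonReal.co1_real LThreeMB.CoOneFin.coOne (orderOf_eq_prime hz hz1)

end Cfsg.Agent.H711.RowsA
end

-- part: H711/FiTFRow
section
set_option linter.all false
open scoped Cfsg.Agent.FastGrp

/-!
# The strong row for `p = 3`: `Fi24'`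

`CC p K` : no non-trivial `p'`-element centralises a Sylow `p`-subgroup.
-/

set_option autoImplicit false

open Subgroup

open scoped Pointwise

namespace Cfsg.Agent.H711.FiTFRow

open Cfsg Cfsg.Agent.H711.Crit Cfsg.Agent.H712.Gmn
open Cfsg.Agent.H681.GmnTypes Cfsg.Agent.H681.GmnRankTwo Cfsg.Agent.Omega.ML.Ex.Typ

/-- no non-trivial `p'`-element centralises a Sylow `p`-subgroup -/
def CC (p : ℕ) (K : Type*) [Group K] : Prop :=
  ∀ (Q : Sylow p K) (s : K), ¬ p ∣ orderOf s → (∀ x ∈ Q, s * x * s⁻¹ = x) → s = 1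

/-- a group with a root datum -/
theorem cc_of_rgdt {p l : ℕ} {M : CoxeterMatrix (Fin l)} {G : Type*} [Group G] [Finite G] (hp : p.Prime)
    (hZ : Subgroup.center G = ⊥) (hG : HasRGDT p M G) : CC p G := by
  have : Fact p.Prime := ⟨hp⟩
  obtain ⟨A, h, T, n, X, hW, R, hX⟩ := hG
  intro Q s hs hc
  exact Cfsg.Agent.H681.GmnRankOne.cent_of_rgd R hX hZ Q s hs hc

theorem center_omega8 : center (POmega (ZMod 3) (quadFormPlus 4 (ZMod 3))) = ⊥ := by
  have : Fact (Nat.Prime 3) := ⟨Nat.prime_three⟩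
  rw [← Cfsg.Agent.LieClassical.OrthForms.coe_plusForm]
  apply H844.PCenter.center_eq_bot
  apply Cfsg.Agent.LieClassical.OrthFinite.good_of_finite
    (Cfsg.Agent.LieClassical.OrthForms.nondeg_plusForm 4 (ZMod 3))
  rw [Module.finrank_fintype_fun_eq_card, Fintype.card_sum, Fintype.card_fin]
  norm_num

theorem cc_omega8 : CC 3 (POmega (ZMod 3) (quadFormPlus 4 (ZMod 3))) := by
  have : Fact (Nat.Prime 3) := ⟨Nat.prime_three⟩
  have hfin : Finite (POmega (ZMod 3) (quadFormPlus 4 (ZMod 3))) := Quotient.finite _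
  exact cc_of_rgdt Nat.prime_three center_omega8 (typ_PO_plus 1)

/-- **from the centralizer of a `p`-element to the group** -/
theorem CC.lift {G K : Type*} [Group G] [Group K] [Finite G] {p : ℕ} [Fact p.Prime] (f : K →* G)
    (hf : Function.Injective f) {t : G} (ht : IsPGroup p (zpowers t)) (hft : ∀ k, f k * t = t * f k)
    (hp : ∀ s, s * t = t * s → ¬ p ∣ orderOf s → s ∈ f.range) (hC : CC p K) : CC p G := by
  intro Q s hs hc
  have : Finite K := Finite.of_injective f hf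
  obtain ⟨R⟩ : Nonempty (Sylow p K) := inferInstance
  have hR : IsPGroup p ↥((R : Subgroup K).map f) := R.isPGroup'.map _
  have hN : (R : Subgroup K).map f ≤ normalizer (zpowers t : Set G) := by
    rintro _ ⟨r, -, rfl⟩
    rw [Subgroup.mem_normalizer_iff]
    have key : ∀ x ∈ zpowers t, f r * x * (f r)⁻¹ = x := by
      rintro _ ⟨i, rfl⟩
      have h1 : Commute (f r) (t ^ i) := (show Commute (f r) t from hft r).zpow_right i
      show f r * t ^ i * (f r)⁻¹ = t ^ i
      rw [h1.eq, mul_inv_cancel_right]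
    intro x
    refine ⟨fun hx => by rw [key x hx]; exact hx, fun hx => ?_⟩
    have h1 : x = (f r)⁻¹ * (f r * x * (f r)⁻¹) * f r := by group
    obtain ⟨i, hi⟩ := hx
    have h2 : (f r)⁻¹ * t ^ i = t ^ i * (f r)⁻¹ :=
      (((show Commute (f r) t from hft r).zpow_right i).inv_left).eq
    rw [h1, ← hi]
    show (f r)⁻¹ * t ^ i * f r ∈ zpowers t
    rw [h2, inv_mul_cancel_right]
    exact zpow_mem (mem_zpowers t) i
  have hsup : IsPGroup p ↥((R : Subgroup K).map f ⊔ zpowers t) := IsPGroup.to_sup_of_normal_right' hR ht hN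
  obtain ⟨P, hP⟩ := hsup.exists_le_sylow
  obtain ⟨g, hg⟩ := MulAction.exists_smul_eq G Q P
  have hmem : ∀ x ∈ P, g⁻¹ * x * g ∈ Q := by
    intro x hx
    rw [← hg] at hx
    have hx' : x ∈ MulAut.conj g • (Q : Subgroup G) := hx
    rw [Subgroup.mem_pointwise_smul_iff_inv_smul_mem] at hx'
    rw [← map_inv, MulAut.smul_def, MulAut.conj_apply, inv_inv] at hx'
    exact hx'
  obtain ⟨s', hs'⟩ : ∃ s', s' = g * s * g⁻¹ := ⟨_, rfl⟩
  have hc' : ∀ x ∈ P, s' * x * s'⁻¹ = x := by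
    intro x hx
    have h1 := hc _ (hmem x hx)
    have h2 : s' * x * s'⁻¹ = g * (s * (g⁻¹ * x * g) * s⁻¹) * g⁻¹ := by rw [hs']; group
    rw [h2, h1]
    group
  have hord : orderOf s' = orderOf s := by
    rw [hs', show g * s * g⁻¹ = MulAut.conj g s from rfl]
    exact orderOf_injective (MulAut.conj g).toMonoidHom (MulAut.conj g).injective s
  have hst : s' * t = t * s' := by
    have h1 := hc' t (hP (mem_sup_right (mem_zpowers t)))
    rwa [mul_inv_eq_iff_eq_mul] at h1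
  obtain ⟨k, hk⟩ := hp s' hst (by rwa [hord])
  have hk1 : k = 1 := by
    refine hC R k ?_ fun x hx => hf ?_
    · rw [← orderOf_injective f hf, hk, hord]
      exact hs
    · rw [map_mul, map_mul, map_inv, hk]
      exact hc' _ (hP (mem_sup_left (mem_map_of_mem f hx)))
  have h3 : s' = 1 := by rw [← hk, hk1, map_one]
  rw [hs'] at h3
  exact conj_eq_one_iff.1 h3

section fi

open Cfsg.Agent.Fischer480.Defs Cfsg.Agent.R08 Cfsg.Agent.R08.FiTwentyFour
open Cfsg.Agent.Fischer.Fi24Class (gen gen_sq)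
open Cfsg.Agent.H830.Con24 Cfsg.Agent.H830.Type24
open Cfsg.Agent.H711.FiThreeRow

theorem perm_three : ∀ a b : Equiv.Perm (Fin 3), a * a = 1 → b * b = 1 → a ≠ 1 → b ≠ 1 →
    ∃ c, c * a * c⁻¹ = b := by decide

theorem perm_three_ord : ∀ a : Equiv.Perm (Fin 3), a * a = 1 ∨ a * a * a = 1 := by decide

theorem cc_fi24 : CC 3 Spor.Fi24' := by
  have : Fact (Nat.Prime 3) := ⟨Nat.prime_three⟩
  have := finite_Fi24
  obtain ⟨d, hd, c, hc, hdc⟩ : ∃ d ∈ L, ∃ c ∈ L, ¬ Commute d c := by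
    obtain ⟨c, hc, h⟩ := exists_pair
    exact ⟨_, gen_mem_L .l, c, hc, h⟩
  have htri := tri_com fgroup isT8 hd hc hdc
  have hcard := card_two fgroup isT8 hd hc hdc
  have hcl := closure_com hd hc hdc
  rw [← hcl] at hcard
  obtain ⟨H, hH⟩ : ∃ H, H = closure (Com L d c) := ⟨_, rfl⟩
  rw [← hH] at htri hcard hcl
  obtain ⟨N, hN, ⟨e⟩, ⟨q⟩⟩ := htri
  have h2 := N.card_eq_card_quotient_mul_card_subgroup
  rw [Nat.card_congr q.toEquiv, Nat.card_congr e.toEquiv, H830.TriMain.card_pomega, Nat.card_perm, Nat.card_fin,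
    show Nat.factorial 3 = 6 from rfl] at h2
  -- the center is trivial
  have hcen : center ↥H = ⊥ := by
    have h3 := (center ↥H).card_eq_card_quotient_mul_card_subgroup
    rw [h2, hcard] at h3
    rw [← Subgroup.card_eq_one]
    have h4 : Nat.card ↥(center ↥H) * (6 * 4952179814400) = 1 * (6 * 4952179814400) := by
      rw [one_mul, mul_comm]; exact h3.symm
    exact Nat.eq_of_mul_eq_mul_right (by norm_num) h4
  let π : ↥H →* ↥H ⧸ center ↥H := QuotientGroup.mk' (center ↥H)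
  have hπ : Function.Injective π := by
    rw [← MonoidHom.ker_eq_bot_iff, QuotientGroup.ker_mk', hcen]
  let E : ↥H ≃* ↥H ⧸ center ↥H := MulEquiv.ofBijective π ⟨hπ, QuotientGroup.mk'_surjective _⟩
  let f0 : POmega (ZMod 3) (quadFormPlus 4 (ZMod 3)) →* ↥H :=
    E.symm.toMonoidHom.comp (N.subtype.comp e.symm.toMonoidHom)
  have hf0 : Function.Injective f0 := E.symm.injective.comp (N.subtype_injective.comp e.symm.injective)
  let φ : ↥H →* Equiv.Perm (Fin 3) := q.toMonoidHom.comp ((QuotientGroup.mk' N).comp π)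
  have hφ : Function.Surjective φ :=
    q.surjective.comp ((QuotientGroup.mk'_surjective _).comp (QuotientGroup.mk'_surjective _))
  have hker : ∀ x : ↥H, φ x = 1 → x ∈ f0.range := by
    intro x hx
    have h3 : (QuotientGroup.mk' N) (π x) = 1 := q.injective (by rw [map_one]; exact hx)
    have h4 : π x ∈ N := (QuotientGroup.eq_one_iff _).1 h3
    refine ⟨e ⟨π x, h4⟩, ?_⟩
    show E.symm (N.subtype (e.symm (e ⟨π x, h4⟩))) = x
    rw [MulEquiv.symm_apply_apply]
    exact E.symm_apply_apply x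
  -- the sign
  have hs := H830.TriMain.simple_pomega
  have hsg : ∀ y, Cfsg.Agent.Fischer.Fi24Final.sgn (f0 y : Spor.Fi24) = 1 := by
    let ρ : POmega (ZMod 3) (quadFormPlus 4 (ZMod 3)) →* ℤˣ :=
      Cfsg.Agent.Fischer.Fi24Final.sgn.comp (H.subtype.comp f0)
    rcases hs.eq_bot_or_eq_top_of_normal ρ.ker inferInstance with h | h
    · exfalso
      have h3 : Function.Injective ρ := (MonoidHom.ker_eq_bot_iff ρ).1 h
      have h4 := Nat.card_le_card_of_injective ρ h3
      rw [H830.TriMain.card_pomega] at h4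
      have h5 : Nat.card ℤˣ = 2 := by rw [Nat.card_eq_fintype_card]; rfl
      rw [h5] at h4
      norm_num at h4
    · intro y
      have h3 : y ∈ ρ.ker := by rw [h]; exact mem_top y
      exact h3
  let f1 : POmega (ZMod 3) (quadFormPlus 4 (ZMod 3)) →* Spor.Fi24 := H.subtype.comp f0
  let f : POmega (ZMod 3) (quadFormPlus 4 (ZMod 3)) →* Spor.Fi24' :=
    f1.codRestrict (commutator Spor.Fi24) fun y => mem_commutator_iff.2 (hsg y)
  have hf : Function.Injective f := by
    intro a b hab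
    have h3 : (f a : Spor.Fi24) = f b := by rw [hab]
    exact hf0 (Subtype.ext h3)
  -- the element of order three
  have htm : d * c ∈ commutator Spor.Fi24 := by
    rw [mem_commutator_iff, map_mul, sgn_L hd, sgn_L hc]
    rfl
  let t : Spor.Fi24' := ⟨d * c, htm⟩
  have ht3 : (d * c) ^ 3 = 1 := Cfsg.Agent.H840.NormX.cube (Cfsg.Agent.H840.NormX.fd fgroup) hd hc hdc
  have hHc : ∀ x : ↥H, (x : Spor.Fi24) * (d * c) = d * c * x := by
    intro x
    have h3 : (x : Spor.Fi24) ∈ centralizer ({c} : Set Spor.Fi24) ⊓ centralizer ({d} : Set Spor.Fi24) := by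
      rw [← hcl]; exact x.2
    have h4 := mem_centralizer_singleton_iff.1 h3.1
    have h5 := mem_centralizer_singleton_iff.1 h3.2
    rw [← mul_assoc, h5, mul_assoc, h4, mul_assoc]
  refine CC.lift f hf (t := t) ?_ (fun k => Subtype.ext (hHc (f0 k))) ?_ cc_omega8
  · rintro ⟨x, hx⟩
    obtain ⟨i, rfl⟩ := mem_zpowers_iff.1 hx
    refine ⟨1, Subtype.ext ?_⟩
    show (t ^ i) ^ (3 ^ 1) = 1
    have h3 : t ^ 3 = 1 := Subtype.ext ht3
    rw [pow_one, ← zpow_natCast, ← zpow_mul, mul_comm, zpow_mul, zpow_natCast, h3, one_zpow]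
  · intro s hst ho
    have hst' : Commute (s : Spor.Fi24) (d * c) := congrArg Subtype.val hst
    obtain ⟨x, hx, y, hy, hxy⟩ := Cfsg.Agent.H840.NormX.cent_mul fgroup hd hc hdc hst'
    have hyH : y ∈ H := by
      rw [hcl]
      exact ⟨mem_centralizer_singleton_iff.2 (mem_centralizer_iff.1 hy c (by simp)).symm,
        mem_centralizer_singleton_iff.2 (mem_centralizer_iff.1 hy d (by simp)).symm⟩
    have hxyc : Commute x y := by
      obtain ⟨i, rfl⟩ := mem_zpowers_iff.1 hx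
      exact ((show Commute y (d * c) from hHc ⟨y, hyH⟩).symm).zpow_left i
    have hx3 : x ^ 3 = 1 := by
      obtain ⟨i, rfl⟩ := mem_zpowers_iff.1 hx
      rw [← zpow_natCast, ← zpow_mul, mul_comm, zpow_mul, zpow_natCast, ht3, one_zpow]
    have hos : orderOf (s : Spor.Fi24) = orderOf s := orderOf_coe s
    have hco : Nat.Coprime 3 (orderOf s) := (Nat.Prime.coprime_iff_not_dvd Nat.prime_three).2 ho
    -- `s` is in `H`
    have hsH : (s : Spor.Fi24) ∈ H := by
      have h3 : (s : Spor.Fi24) ^ 3 ∈ H := by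
        rw [hxy, hxyc.mul_pow, hx3, one_mul]
        exact pow_mem hyH 3
      obtain ⟨m, hm⟩ := exists_pow_eq_self_of_coprime (x := (s : Spor.Fi24)) (n := 3) (by rw [hos]; exact hco)
      rw [← hm]
      exact pow_mem h3 m
    let sH : ↥H := ⟨s, hsH⟩
    have hfs : φ sH = 1 := by
      rcases perm_three_ord (φ sH) with h3 | h3
      · by_contra h0
        -- a transposition in `H`
        obtain ⟨w, hw⟩ : (Com L d c).Nonempty := by
          rw [Set.nonempty_iff_ne_empty]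
          intro h4
          have h5 : Nat.card ↥H = 1 := by
            rw [hH, h4, Subgroup.closure_empty]
            exact Subgroup.card_bot
          rw [hcard] at h5
          norm_num at h5
        have hwL : w ∈ L := hw.1
        let wH : ↥H := ⟨w, by rw [hH]; exact subset_closure hw⟩
        have hw2 : wH * wH = 1 := Subtype.ext ((Cfsg.Agent.H840.NormX.fd fgroup).sq w hwL)
        have hw1 : φ wH ≠ 1 := by
          intro h4
          obtain ⟨y, hy⟩ := hker _ h4
          have h5 := hsg y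
          rw [hy] at h5
          have h6 : Cfsg.Agent.Fischer.Fi24Final.sgn w = -1 := sgn_L hwL
          exact absurd (h6.symm.trans h5) (by decide)
        obtain ⟨a, ha⟩ := perm_three (φ wH) (φ sH) (by rw [← map_mul, hw2, map_one]) h3 hw1 h0
        obtain ⟨b, rfl⟩ := hφ a
        obtain ⟨y, hy⟩ := hker ((b * wH * b⁻¹)⁻¹ * sH) (by
          rw [map_mul, map_inv, map_mul, map_mul, map_inv, ha, inv_mul_cancel])
        have h5 := hsg y
        rw [hy] at h5
        have h6 : Cfsg.Agent.Fischer.Fi24Final.sgn w = -1 := sgn_L hwL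
        have h7 : Cfsg.Agent.Fischer.Fi24Final.sgn (s : Spor.Fi24) = 1 := mem_commutator_iff.1 s.2
        have h8 : (((b * wH * b⁻¹)⁻¹ * sH : ↥H) : Spor.Fi24) = ((b : Spor.Fi24) * w * (b : Spor.Fi24)⁻¹)⁻¹ * s := rfl
        rw [h8, map_mul, map_inv, map_mul, map_mul, map_inv, h6, h7] at h5
        rw [mul_comm (Cfsg.Agent.Fischer.Fi24Final.sgn (b : Spor.Fi24)) (-1), mul_inv_cancel_right] at h5
        exact absurd h5 (by decide)
      · have h4 : orderOf (φ sH) ∣ 3 := orderOf_dvd_of_pow_eq_one (by rw [pow_succ, pow_two]; exact h3)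
        have h5 : orderOf (φ sH) ∣ orderOf s := by
          refine (orderOf_map_dvd φ sH).trans ?_
          rw [← orderOf_coe, ← hos]
        rw [← orderOf_eq_one_iff]
        exact Nat.eq_one_of_dvd_coprimes hco h4 h5
    obtain ⟨y, hy⟩ := hker sH hfs
    exact ⟨y, Subtype.ext (show f1 y = (sH : Spor.Fi24) from congrArg Subtype.val hy)⟩

end fi

universe u

open Cfsg.Agent.H711.RowsA in
/-- **`Fi24'`** -/
theorem fi24 {K : Type u} [Group K] [IsSimpleGroup K] (h : Spor.IsoFi24' K) : RowS 3 K := by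
  have hc : Nat.card Spor.Fi24' = _ := NotCT.Orders.fi24 ⟨MulEquiv.refl _⟩
  have hf : Finite Spor.Fi24' := Nat.finite_of_card_ne_zero (by rw [hc]; norm_num)
  obtain ⟨e⟩ := h
  have : IsSimpleGroup Spor.Fi24' := e.isSimpleGroup_congr.1 inferInstance
  exact (RowS.of_row (RowCount.fi24 ⟨MulEquiv.refl _⟩) cc_fi24).congr e.symm

end Cfsg.Agent.H711.FiTFRow
end
end
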