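import Mathlib
import Cfsg.Agent.H467.OddNormRow
import Cfsg.Agent.H711.Crit_m3
import Cfsg.Agent.H681.GmnTypes
import Cfsg.Agent.H711.FiTFRow
import Cfsg.Agent.H711.RowsB_mg
import Cfsg.Agent.SporadicA.M11Facts
import Cfsg.Agent.UGT.End.MEleven
import Cfsg.Agent.ClassicalGeometry.Eichler
import Cfsg.Agent.LieClassical.OrthForms
import Cfsg.Agent.S2081
import Cfsg.Prelude.Def_Classification2
import Cfsg.Agent.H502.ThFiveP
import Cfsg.Agent.H569.HNFiveQ_m3
import Cfsg.Agent.S1701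
import Cfsg.Agent.H569.BFive
import Cfsg.Agent.H711.MonReal
import Cfsg.Agent.FastGrp
import Cfsg.Agent.Prune
set_option linter.all false

section
prune_inst 0x7ffebdfbaff8bddfffff7e7faefddffdf9b87fffefdff9fb7fe163ff0fdf0b6f8bc5fbaf6fec12fe9ef6e21490b87853ffffdeffe26bfc7ffffd5ff45ffbee5ff7ffbd0851969c340ffc6ffffbf07f8e7f3fffffffffffffffffffffffffffffffffffffffff

-- part: H457/Odd/Crit
section
prune_inst 0x142005004022000000180510000020444800010200600801c9c00f0206080703000001003c801610110aa27400380000020000d9401000000a00020041180080002832869008a00020000000b807180c00000000000000000000000000000000000000000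
set_option linter.all false
open scoped Cfsg.Agent.FastGrp

/-!
# Involutions normalising Sylow subgroups: criteria inside the group (helper457)

`EvIn p S` (helper467): some involution of `S` normalises some Sylow `p`-subgroup of `S`.

It goes up to overgroups of `p'`-index (`of_injective`) and to extensions by arbitrary normal subgroups
(`of_surjective`); it follows from real elements of order `p` (`of_real'`, `of_comm_real`, `of_real_card`).
-/

set_option autoImplicit false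

open Subgroup

namespace Cfsg.Agent.H457.Odd

open Cfsg.Agent.H467.OddNorm Cfsg.Agent.H711.Crit

variable {p : ℕ} {S : Type*} [Group S]

theorem orderOf_half {n : S} {k : ℕ} (hk : orderOf n = 2 * k) (hpos : 0 < k) : orderOf (n ^ k) = 2 := by
  have h := orderOf_pow_of_dvd hpos.ne' (Dvd.intro 2 (by omega : k * 2 = orderOf n))
  rw [h, hk]
  exact Nat.mul_div_cancel _ hpos

/-- an element of even order normalising a Sylow subgroup -/
theorem evIn_of_even [Finite S] (Q : Sylow p S) {h : S} (he : Even (orderOf h)) (hn : ∀ x ∈ Q, h * x * h⁻¹ ∈ Q) :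
    EvIn p S := by
  obtain ⟨k, hk⟩ := he
  have hpos := orderOf_pos h
  refine ⟨Q, h ^ k, orderOf_half (by omega) (by omega), ?_⟩
  exact pow_mem (mem_normalizer_of_forall hn) k

/-- up to an overgroup of `p'`-index -/
theorem evIn_of_injective [Finite S] [Fact p.Prime] {H : Type*} [Group H] (f : H →* S) (hf : Function.Injective f)
    (hi : ¬ p ∣ f.range.index) (h : EvIn p H) : EvIn p S := by
  have : Finite H := Finite.of_injective f hf
  obtain ⟨R, t, ht, hn⟩ := h
  have hcard : Nat.card ((R : Subgroup H).map f) = p ^ (Nat.card S).factorization p := by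
    rw [Nat.card_congr ((R : Subgroup H).equivMapOfInjective f hf).toEquiv.symm, R.card_eq_multiplicity,
      ← f.range.card_mul_index, Nat.card_congr (MonoidHom.ofInjective hf).toEquiv.symm,
      Nat.factorization_mul Nat.card_pos.ne' (Subgroup.index_ne_zero_of_finite), Finsupp.add_apply,
      Nat.factorization_eq_zero_of_not_dvd hi, add_zero]
  refine evIn_of_even (Sylow.ofCard _ hcard) (h := f t) ?_ ?_
  · rw [orderOf_injective f hf, ht]
    exact even_two
  · rintro _ ⟨x, hx, rfl⟩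
    exact ⟨t * x * t⁻¹, (mem_normalizer_iff.1 hn _).1 hx, by simp⟩

theorem evIn_of_subgroup [Finite S] [Fact p.Prime] (H : Subgroup S) (hi : ¬ p ∣ H.index) (h : EvIn p H) : EvIn p S :=
  evIn_of_injective H.subtype H.subtype_injective (by rwa [H.range_subtype]) h

/-- by cardinalities -/
theorem evIn_of_injective_card [Finite S] [hp : Fact p.Prime] {H : Type*} [Group H] (f : H →* S)
    (hf : Function.Injective f) {n : ℕ} (hn : ¬ p ^ (n + 1) ∣ Nat.card S) (hH : p ^ n ∣ Nat.card H) (h : EvIn p H) :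
    EvIn p S := by
  refine evIn_of_injective f hf (fun h0 => hn ?_) h
  rw [← f.range.card_mul_index, Nat.card_congr (MonoidHom.ofInjective hf).toEquiv.symm, pow_succ]
  exact Nat.mul_dvd_mul hH h0

/-- **up to a group with the given quotient** (arbitrary kernel) -/
theorem evIn_of_surjective [Finite S] [hp : Fact p.Prime] (hp2 : p ≠ 2) {K : Type*} [Group K] (f : S →* K)
    (hf : Function.Surjective f) (h : EvIn p K) : EvIn p S := by
  have : Finite K := Finite.of_surjective f hf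
  obtain ⟨R, h, h1, hn⟩ := h
  have h2 : ∀ x ∈ R, h * x * h⁻¹ ∈ R := fun x hx => (mem_normalizer_iff.1 hn _).1 hx
  obtain ⟨x, rfl⟩ := hf h
  -- the preimage `M` of `R` and a Sylow subgroup of `M`
  let M : Subgroup S := (R : Subgroup K).comap f
  obtain ⟨Q₀⟩ : Nonempty (Sylow p M) := inferInstance
  let Q₁ : Subgroup S := (Q₀ : Subgroup M).map M.subtype
  have hQ₁M : Q₁ ≤ M := by
    rintro _ ⟨y, -, rfl⟩
    exact y.2
  have hidx : ¬ p ∣ M.index := by
    rw [index_comap_of_surjective _ hf]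
    exact R.not_dvd_index
  have hcard : Nat.card Q₁ = p ^ (Nat.card S).factorization p := by
    rw [Nat.card_congr ((Q₀ : Subgroup M).equivMapOfInjective _ M.subtype_injective).toEquiv.symm,
      Q₀.card_eq_multiplicity, ← M.card_mul_index,
      Nat.factorization_mul Nat.card_pos.ne' (Subgroup.index_ne_zero_of_finite), Finsupp.add_apply,
      Nat.factorization_eq_zero_of_not_dvd hidx, add_zero]
  let Q : Sylow p S := Sylow.ofCard Q₁ hcard
  -- `x` normalises `M`
  have hxM : ∀ y ∈ M, x * y * x⁻¹ ∈ M := by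
    intro y hy
    show f (x * y * x⁻¹) ∈ R
    rw [map_mul, map_mul, map_inv]
    exact h2 _ hy
  -- Frattini
  have hQx : ∃ m ∈ M, ∀ y ∈ Q, (m * x) * y * (m * x)⁻¹ ∈ Q := by
    let Q₂ : Subgroup S := (Q : Subgroup S).map (MulAut.conj x).toMonoidHom
    have hQ₂M : Q₂ ≤ M := by
      rintro _ ⟨y, hy, rfl⟩
      exact hxM y (hQ₁M hy)
    have hc2 : Nat.card (Q₂.subgroupOf M) = p ^ (Nat.card M).factorization p := by
      rw [Nat.card_congr (subgroupOfEquivOfLe hQ₂M).toEquiv,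
        Nat.card_congr ((Q : Subgroup S).equivMapOfInjective _ (MulAut.conj x).injective).toEquiv.symm,
        ← Q₀.card_eq_multiplicity]
      exact (Nat.card_congr ((Q₀ : Subgroup M).equivMapOfInjective _ M.subtype_injective).toEquiv).symm
    obtain ⟨m, hm⟩ := MulAction.exists_smul_eq M (Sylow.ofCard _ hc2) Q₀
    refine ⟨m, m.2, fun y hy => ?_⟩
    have h9 : (⟨x * y * x⁻¹, hxM y (hQ₁M hy)⟩ : M) ∈ Sylow.ofCard _ hc2 := by
      show _ ∈ Q₂.subgroupOf M
      rw [mem_subgroupOf]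
      exact ⟨y, hy, rfl⟩
    have h10 : m * ⟨x * y * x⁻¹, hxM y (hQ₁M hy)⟩ * m⁻¹ ∈ Q₀ := by
      rw [← hm]
      show _ ∈ ((m • Sylow.ofCard _ hc2 : Sylow p M) : Set M)
      rw [Sylow.coe_smul]
      exact ⟨_, h9, rfl⟩
    refine ⟨_, h10, ?_⟩
    show (m : S) * (x * y * x⁻¹) * (m : S)⁻¹ = _
    group
  obtain ⟨m, hm, hmx⟩ := hQx
  refine evIn_of_even Q ?_ hmx
  -- `f (m * x)` has even order: it is an element of `R x`, `x` normalises `R`
  by_contra ho
  rw [Nat.not_even_iff_odd] at ho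
  obtain ⟨k, hk⟩ := ho
  have hm' : f m ∈ R := hm
  -- modulo `R`, in the normalizer of `R`
  have key : ∀ j : ℕ, ∃ r ∈ R, (f m * f x) ^ (2 * j + 1) = r * f x := by
    intro j
    induction j with
    | zero => exact ⟨f m, hm', by rw [mul_zero, zero_add, pow_one]⟩
    | succ j ih =>
      obtain ⟨r, hr, hrj⟩ := ih
      refine ⟨r * (f x * f m * (f x)⁻¹) * f m, mul_mem (mul_mem hr (h2 _ hm')) hm', ?_⟩
      have hxx : f x * f x = 1 := by rw [← pow_two, ← h1, pow_orderOf_eq_one]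
      have hxi : (f x)⁻¹ = f x := inv_eq_of_mul_eq_one_left hxx
      rw [show 2 * (j + 1) + 1 = (2 * j + 1) + 1 + 1 by ring, pow_succ, pow_succ, hrj, hxi]
      have e : r * f x * (f m * f x) * (f m * f x) = r * (f x * f m * f x) * f m * f x := by group
      rw [e]
  obtain ⟨r, hr, hrk⟩ := key k
  have h3 : (f m * f x) ^ (2 * k + 1) = 1 := by
    rw [← map_mul, ← hk, ← map_pow, pow_orderOf_eq_one, map_one]
  rw [h3] at hrk
  have h4 : f x = r⁻¹ := eq_inv_of_mul_eq_one_right hrk.symm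
  have h5 : f x ∈ R := by rw [h4]; exact inv_mem hr
  obtain ⟨j, hj⟩ := R.isPGroup' ⟨f x, h5⟩
  have h6 : (f x) ^ (p ^ j) = 1 := congrArg Subtype.val hj
  have h7 := orderOf_dvd_of_pow_eq_one h6
  rw [h1] at h7
  exact hp2 ((Nat.prime_dvd_prime_iff_eq Nat.prime_two hp.out).1 (Nat.prime_two.dvd_of_dvd_pow h7)).symm

/-- **Burnside**: a real central element of a Sylow subgroup -/
theorem evIn_of_real [Finite S] [Fact p.Prime] (hp2 : p ≠ 2) (Q : Sylow p S) {z : S} (hz : z ∈ Q) (hz1 : z ≠ 1)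
    (hzc : ∀ x ∈ Q, x * z = z * x) (hc : IsConj z z⁻¹) : EvIn p S := by
  obtain ⟨g, hg⟩ := isConj_iff.1 hc
  obtain ⟨n, hn, hnz⟩ := Sylow.conj_eq_normalizer_conj_of_mem_centralizer Q z g⁻¹
    (by rw [Subgroup.mem_centralizer_iff]; exact hzc)
    (by
      rw [Subgroup.mem_centralizer_iff, inv_inv, hg]
      intro x hx
      have := hzc x hx
      rw [eq_inv_mul_iff_mul_eq, ← mul_assoc, ← this, mul_inv_cancel_right])
  rw [inv_inv, hg] at hnz
  have hn' : ∀ x ∈ Q, n⁻¹ * x * n⁻¹⁻¹ ∈ Q := fun x hx => ((Subgroup.mem_normalizer_iff.1 (inv_mem hn)) x).1 hx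
  have hne : z⁻¹ ≠ z := by
    refine inv_ne_self Fact.out hp2 hz1 ?_
    obtain ⟨k, hk⟩ := Q.isPGroup' ⟨z, hz⟩
    exact ⟨k, congrArg Subtype.val hk⟩
  refine evIn_of_even Q (even_of_inverts (z := z) (n := n⁻¹) hne ?_) hn'
  rw [inv_inv]
  exact hnz.symm

/-- all elements of order `p` commuting with one given element of order `p` are real -/
theorem evIn_of_comm_real [Finite S] [Fact p.Prime] (hp2 : p ≠ 2) {x : S} (hx : orderOf x = p)
    (h : ∀ z : S, orderOf z = p → z * x = x * z → IsConj z z⁻¹) : EvIn p S := by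
  have hp : IsPGroup p (zpowers x) := IsPGroup.of_card (n := 1) (by rw [Nat.card_zpowers, hx, pow_one])
  obtain ⟨P, hP⟩ := hp.exists_le_sylow
  have hxP : x ∈ P := hP (Subgroup.mem_zpowers x)
  obtain ⟨w, hwP, hw, hcen⟩ := exists_central P (hx ▸ orderOf_dvd_natCard x)
  have hw1 : w ≠ 1 := by
    intro h0
    rw [h0, orderOf_one] at hw
    exact (Nat.Prime.one_lt (Fact.out : p.Prime)).ne hw
  exact evIn_of_real hp2 P hwP hw1 hcen (h w hw (hcen x hxP).symm)

/-- all elements of order `p` are real -/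
theorem evIn_of_all_real [Finite S] [Fact p.Prime] (hp2 : p ≠ 2) (hd : p ∣ Nat.card S)
    (h : ∀ z : S, orderOf z = p → IsConj z z⁻¹) : EvIn p S := by
  obtain ⟨x, hx⟩ := exists_prime_orderOf_dvd_card' p hd
  exact evIn_of_comm_real hp2 hx fun z hz _ => h z hz

/-- a real element of order `p` whose centralizer contains a Sylow `p`-subgroup -/
theorem evIn_of_real_card [Finite S] [Fact p.Prime] (hp2 : p ≠ 2) {z : S} (hz : orderOf z = p) (hc : IsConj z z⁻¹)
    {n m : ℕ} (hS : Nat.card S = p ^ n * m) (hm : ¬ p ∣ m) (hC : p ^ n ∣ Nat.card ↥(centralizer ({z} : Set S))) :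
    EvIn p S := by
  have hp : p.Prime := Fact.out
  obtain ⟨R, hR⟩ := Sylow.exists_subgroup_card_pow_prime p hC
  let P : Subgroup S := R.map (centralizer ({z} : Set S)).subtype
  have hP : Nat.card P = p ^ (Nat.card S).factorization p := by
    have hm0 : m ≠ 0 := fun h0 => hm (by rw [h0]; exact dvd_zero p)
    rw [Nat.card_congr (R.equivMapOfInjective _ (subtype_injective _)).toEquiv.symm, hR, hS,
      Nat.factorization_mul (pow_pos hp.pos n).ne' hm0, Finsupp.add_apply, Nat.factorization_eq_zero_of_not_dvd hm,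
      Nat.Prime.factorization_pow hp, Finsupp.single_eq_same, add_zero]
  have hcen : ∀ x ∈ Sylow.ofCard P hP, x * z = z * x := by
    rintro _ ⟨⟨x, hx⟩, -, rfl⟩
    exact mem_centralizer_singleton_iff.1 hx
  have hzP : z ∈ Sylow.ofCard P hP := by
    refine mem_of_normalizes _ (fun x hx => ?_) ⟨1, by rw [pow_one, ← hz, pow_orderOf_eq_one]⟩
    rwa [← hcen x hx, mul_inv_cancel_right]
  refine evIn_of_real hp2 _ hzP (fun h0 => ?_) hcen hc
  rw [h0, orderOf_one] at hz
  exact hp.one_lt.ne hz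

theorem evIn_s3 : EvIn 3 (Equiv.Perm (Fin 3)) := by
  have : Fact (Nat.Prime 3) := ⟨Nat.prime_three⟩
  have hc : Nat.card (Equiv.Perm (Fin 3)) = 6 := by rw [Nat.card_eq_fintype_card]; decide
  refine evIn_of_comm_real (by norm_num) (x := finRotate 3) ?_ fun z _ _ => ?_
  · rw [orderOf_eq_prime_iff]; decide
  · have : ∀ z : Equiv.Perm (Fin 3), ∃ c : Equiv.Perm (Fin 3), c * z * c⁻¹ = z⁻¹ := by decide
    exact isConj_iff.2 (this z)

/-- `Row` from `EvIn` of a copy, when `Out` has order prime to `p` -/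
theorem row_of_evIn [Finite S] [hp : Fact p.Prime] (hZ : center S = ⊥)
    (hOut : ¬ p ∣ Nat.card (MulAut S ⧸ (MulAut.conj : S →* MulAut S).range)) (h : EvIn p S) : Ev p S := by
  have : Finite (MulAut S) := Cfsg.Agent.H712.Gmn.finite_mulAut
  refine Ev.of_inner ?_ h hZ
  intro a ha
  obtain ⟨k, hk⟩ := ha
  have h1 : (QuotientGroup.mk a : MulAut S ⧸ (MulAut.conj : S →* MulAut S).range) = 1 := by
    have h2 : (QuotientGroup.mk a : MulAut S ⧸ (MulAut.conj : S →* MulAut S).range) ^ (p ^ k) = 1 := by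
      rw [← QuotientGroup.mk_pow, hk]; rfl
    have h3 := orderOf_dvd_of_pow_eq_one h2
    have h4 := orderOf_dvd_natCard (QuotientGroup.mk a : MulAut S ⧸ (MulAut.conj : S →* MulAut S).range)
    have h5 : Nat.Coprime (Nat.card (MulAut S ⧸ (MulAut.conj : S →* MulAut S).range)) (p ^ k) :=
      Nat.Coprime.pow_right k ((Nat.Prime.coprime_iff_not_dvd Fact.out).2 hOut).symm
    exact orderOf_eq_one_iff.1 (Nat.dvd_one.1 (h5 ▸ Nat.dvd_gcd h4 h3))
  obtain ⟨s, hs⟩ := (QuotientGroup.eq_one_iff a).1 h1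
  exact ⟨s, hs.symm⟩

end Cfsg.Agent.H457.Odd
end

-- part: H711/EvFiTF_mg
section
prune_inst 0x200000001000000000000000000000000000004000000800000010000008000000000000000000800000000000000000000000000000000002000100000000000000000000000000000000000000000000000000000000000
set_option linter.all false
open scoped Cfsg.Agent.FastGrp

-- part: H711/EvBond
section
/-!
# Involutions normalising a Sylow subgroup: root group data with a simple bond; `PΩ7(3)`
-/

set_option autoImplicit false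
set_option linter.unusedSectionVars false

namespace Cfsg.Agent.H711.EvBond

open CoxeterSystem Cfsg.Agent.ChevalleyStructure.CoxeterGeom Cfsg.Agent.Tits.Roots Cfsg.Agent.Tits.Core
  Cfsg.Agent.Tits.RootComb Cfsg.Agent.Tits.Exchange Cfsg.Agent.Nodes.Reps Cfsg.Agent.Nodes.BNOf
  Cfsg.Agent.Nodes.Comb
  Cfsg.Agent.Nodes.StabComb Cfsg.Agent.Nodes.ZFam
  Cfsg.Agent.Nodes.Bruhat Cfsg.Agent.Nodes.OppDec Cfsg.Agent.Nodes.LeviDec Cfsg.Agent.Nodes.NormalForm
  Cfsg.Agent.KFacts.RgdOpp Cfsg.Agent.KFacts.RgdAut Cfsg.Agent.KFacts.RgdDiag Cfsg.Agent.KFacts.RgdRigid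
  Cfsg.Agent.H142.GmnPC Cfsg.Agent.H681.GmnRgd Cfsg.Agent.H681.GmnBond Cfsg.Agent.H467.OddNorm
  Cfsg.Agent.Omega.ML.Ex.Typ
open scoped commutatorElement Pointwise

variable {I W Y : Type*} [Fintype I] [DecidableEq I] [Group W] [Group Y] {M : CoxeterMatrix I}
  {cs : CoxeterSystem M W} {A : I → I → ℤ} {h : IsCartan M A} {p : ℕ} {T : Subgroup Y} {n : I → Y}
  {X : (I → ℤ) → Subgroup Y}

theorem evIn_of_bond [Finite W] [Finite Y] [hp : Fact p.Prime] (R : RGD cs h p T n X)
    (h2 : p ≠ 2) (hG1 : RGD.Sup X {x | IsRoot cs h x} = ⊤) {i j : I} (hij : i ≠ j) (hM : M i j = 3) : EvIn p Y := by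
  have hG := GG_eq_top (T := T) hG1
  obtain ⟨v, hv, hv1⟩ : ∃ v ∈ X (-sr j), v ≠ 1 := by
    have := X_ne_bot R (isRoot_sr cs h j).neg
    by_contra h0
    push Not at h0
    exact this ((Subgroup.eq_bot_iff_forall _).2 h0)
  obtain ⟨a, ha, t, ht, b, hb, e⟩ := R.rk1 j v hv hv1
  obtain ⟨k, hke⟩ : ∃ k, k = t * n j := ⟨_, rfl⟩
  have hk : Rp cs R.nsys (cs.simple j) k := by
    have := (rp_of_mem (cs := cs) (hN := R.nsys) ht).mul (rp_simple cs R.nsys j)
    rwa [one_mul, ← hke] at this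
  have e' : v = a * k * b := by rw [e, hke]; group
  have hkk : k * k ∈ T := by
    have h1 := hk.mul hk
    rw [cs.simple_mul_simple_self] at h1
    exact h1.mem_of_one
  obtain ⟨w, hw, hw1⟩ := exists_ne_one R i
  have hinv := inverts hij hM R (inv_mem ha) (inv_mem hb) hv hk (by rw [e']; group) hw
  have hinv' : (k * k) * w * (k * k)⁻¹ = w⁻¹ := by
    rw [← hinv]; group
  obtain ⟨m, hm⟩ := R.pgrp i ⟨w, hw⟩
  have hm' : w ^ p ^ m = 1 := by simpa only [_root_.SubmonoidClass.mk_pow, _root_.OneMemClass.coe_one] using congrArg Subtype.val hm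
  have heven : Even (orderOf (k * k)) :=
    even_of_inverts (inv_ne_self hp.out h2 hw1 ⟨m, hm'⟩) hinv'
  obtain ⟨P, hP⟩ := R.isPGroup_Upos.exists_le_sylow
  have hPU : (P : Subgroup Y) = RGD.Sup X (RGD.Pos cs h) :=
    eq_U_of_isPGroup R P.isPGroup' hP (by rw [hG]; exact le_top)
  refine Cfsg.Agent.H457.Odd.evIn_of_even P heven fun x hx => ?_
  have hx' : x ∈ (P : Subgroup Y) := hx
  rw [hPU] at hx'
  show _ ∈ (P : Subgroup Y)
  rw [hPU]
  exact (Subgroup.mem_normalizer_iff.1 (RGD.T_le_normalizer_U R hkk) _).1 hx'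

theorem evIn_of_rgdt {l : ℕ} {M : CoxeterMatrix (Fin l)} {G : Type*} [Group G] [Finite G] (hp : p.Prime)
    (hp2 : p ≠ 2) {i j : Fin l} (hij : i ≠ j) (hM : M i j = 3) (hG : HasRGDT p M G) : EvIn p G := by
  have : Fact p.Prime := ⟨hp⟩
  obtain ⟨A, h, T, n, X, hW, R, hX⟩ := hG
  exact evIn_of_bond R hp2 hX hij hM

/-- `PΩ7(3)` -/
theorem evIn_omega7 : EvIn 3 (Cfsg.POmega (ZMod 3) (Cfsg.quadFormOdd 3 (ZMod 3))) := by
  have : Fact (Nat.Prime 3) := ⟨Nat.prime_three⟩
  have hfin : Finite (Cfsg.POmega (ZMod 3) (Cfsg.quadFormOdd 3 (ZMod 3))) := Quotient.finite _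
  have h2 : (2 : ZMod 3) ≠ 0 := LieNN.two_ne
  obtain ⟨i, j, hij, h3, -⟩ := Cfsg.Agent.H681.GmnTypes.rigid_B Nat.prime_three (by norm_num) (n := 3) (by omega)
  exact evIn_of_rgdt Nat.prime_three (by norm_num) hij h3 (Cfsg.Agent.H410.Types.typ_PO_odd h2 (by omega))

end Cfsg.Agent.H711.EvBond
end

-- part: H711/EvA
section
/-!
# Involutions normalising a Sylow 3-subgroup: sporadic groups
-/

set_option autoImplicit false

open Subgroup

namespace Cfsg.Agent.H711.EvA

open Cfsg Cfsg.Agent.H711.Crit Cfsg.Agent.H457.Odd Cfsg.Agent.H467.OddNorm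

universe u

/-- from the standard copy to all copies -/
theorem ev_of {S : Type} [Group S] [Finite S] {K : Type u} [Group K] [IsSimpleGroup K] (e : K ≃* S)
    (hc : ¬ (Nat.card S).Prime) {n : ℕ} (hOut : Nat.card (Out S) = n) (hn : n % 3 ≠ 0) (h : EvIn 3 S) : Ev 3 K := by
  have : Fact (Nat.Prime 3) := ⟨Nat.prime_three⟩
  have : IsSimpleGroup S := e.isSimpleGroup_congr.1 inferInstance
  refine Ev.congr e.symm (row_of_evIn (RowCount.center_eq_bot hc) ?_ h)
  intro h0
  have h1 : 3 ∣ Nat.card (Out S) := h0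
  rw [hOut] at h1
  omega

/-! ### `M11`, `Suz` -/

theorem evIn_m11 {K : Type*} [Group K] (h : Spor.IsoM11 K) : EvIn 3 K := by
  have : Fact (Nat.Prime 3) := ⟨Nat.prime_three⟩
  have hc := NotCT.Orders.m11 h
  have : Finite K := Nat.finite_of_card_ne_zero (by rw [hc]; norm_num)
  have hG : IsM11 K := UGT.End.MEleven.isM11 h
  obtain ⟨Q⟩ : Nonempty (Sylow 3 K) := inferInstance
  have h1 : Nat.card (Q : Subgroup K) = 3 ^ 2 := by
    rw [Q.card_eq_multiplicity, hc, show 7920 = 3 ^ 2 * 880 by norm_num,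
      Nat.factorization_mul (by norm_num) (by norm_num), Finsupp.add_apply,
      Nat.factorization_eq_zero_of_not_dvd (by norm_num : ¬ 3 ∣ 880), Nat.Prime.factorization_pow Nat.prime_three,
      Finsupp.single_eq_same]
  have hcomm := (IsPGroup.isMulCommutative_of_card_eq_prime_sq h1).is_comm.comm
  obtain ⟨z, hzQ, hz, -⟩ := exists_central Q (by rw [hc]; norm_num)
  refine evIn_of_real (by norm_num) Q hzQ (fun h0 => ?_)
    (fun x hx => congrArg Subtype.val (hcomm (⟨x, hx⟩ : (Q : Subgroup K)) ⟨z, hzQ⟩)) ?_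
  · rw [h0, orderOf_one] at hz
    norm_num at hz
  · exact SporadicA.M11Three.isConj_inv hG (fun u hu => SporadicA.M11Facts.card_centralizer_two hG hu)
      (fun y hy => SporadicA.M11Facts.card_centralizer_five hG hy)
      (fun x hx => SporadicA.M11Sylow.card_centralizer_eleven hG hx) Q z hzQ

theorem evIn_suz : EvIn 3 Spor.Suz := by
  have : Fact (Nat.Prime 3) := ⟨Nat.prime_three⟩
  have hc : Nat.card Spor.Suz = 448345497600 := NotCT.Orders.suz ⟨MulEquiv.refl _⟩
  have : Finite Spor.Suz := Nat.finite_of_card_ne_zero (by rw [hc]; norm_num)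
  obtain ⟨h1, h2, h3, h4, h5⟩ := Cfsg.Agent.SuzThree.Final.transport (MulEquiv.refl Spor.Suz)
  set A := Cfsg.Agent.SuzThree.Elementary.A0.map (MulEquiv.refl Spor.Suz).toMonoidHom with hA
  have h6 : EvIn 3 ↥(normalizer (A : Set Spor.Suz)) :=
    evIn_of_surjective (by norm_num) (QuotientGroup.mk' (A.subgroupOf (normalizer (A : Set Spor.Suz))))
      (QuotientGroup.mk'_surjective _) (evIn_m11 h5)
  refine evIn_of_subgroup (normalizer (A : Set Spor.Suz)) ?_ h6
  have h7 : Nat.card ↥(normalizer (A : Set Spor.Suz)) = 7920 * 3 ^ 5 := by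
    rw [Subgroup.card_eq_card_quotient_mul_card_subgroup (A.subgroupOf (normalizer (A : Set Spor.Suz))),
      NotCT.Orders.m11 h5, Nat.card_congr (subgroupOfEquivOfLe le_normalizer).toEquiv, h2]
  have h8 := (normalizer (A : Set Spor.Suz)).card_mul_index
  rw [h7, hc] at h8
  intro h9
  obtain ⟨c, hc'⟩ := h9
  rw [hc'] at h8
  omega

/-! ### `Fi22` -/

theorem evIn_fi22 : EvIn 3 Spor.Fi22 := by
  have : Fact (Nat.Prime 3) := ⟨Nat.prime_three⟩
  have hc : Nat.card Spor.Fi22 = 64561751654400 := NotCT.Orders.fi22 ⟨MulEquiv.refl _⟩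
  have : Finite Spor.Fi22 := Nat.finite_of_card_ne_zero (by rw [hc]; norm_num)
  obtain ⟨e⟩ := S1686.result
  have hfin : Finite (POmega (ZMod 3) (quadFormOdd 3 (ZMod 3))) := Quotient.finite _
  have h1 := EvIn.congr e.symm EvBond.evIn_omega7
  refine evIn_of_subgroup _ ?_ h1
  rw [S1685.result]
  norm_num

/-! ### `McL`, `Ly`, `Co2` -/

open Cfsg.Agent.H711.TwoAnReal

theorem evIn_mcl : EvIn 3 Spor.McL := by
  have : Fact (Nat.Prime 3) := ⟨Nat.prime_three⟩
  obtain ⟨hf, -, hc, ⟨L⟩⟩ := TypeM.FactsMcL.exists_mt_mcl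
  obtain ⟨z, u, f, hz, hu, -, hzu, -, -, hC⟩ := CpAutLy.McLElt.exists_data (M := Spor.McL) ⟨MulEquiv.refl _⟩
  have hu2 : u * u = 1 := by rw [← pow_two, ← hu, pow_orderOf_eq_one]
  have hu1 : u ≠ 1 := by
    intro h0
    rw [h0, orderOf_one] at hu
    norm_num at hu
  refine evIn_of_real_card (n := 6) (m := 1232000) (by norm_num) hz
    (real_mt (by norm_num) L (by rw [← hz, pow_orderOf_eq_one]) hu2 hu1 hzu) (by rw [hc]; norm_num) (by norm_num) ?_
  norm_num only []
  exact hC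

theorem evIn_ly : EvIn 3 Spor.Ly := by
  have : Fact (Nat.Prime 3) := ⟨Nat.prime_three⟩
  have hfin : Finite Cfsg.Spor.Ly := Cfsg.Agent.Ly.Setup.finite_ly
  have hc : Nat.card Spor.Ly = 51765179004000000 := NotCT.Orders.ly ⟨MulEquiv.refl _⟩
  obtain ⟨x, hx⟩ := Cfsg.Agent.CpAutLy.Base.exists_three
  obtain ⟨L, htx, -⟩ := hx.cycle
  refine evIn_of_real_card (n := 7) (m := 23669492000000) (by norm_num) hx.ord
    (real_mt (by norm_num) L (by rw [← hx.ord, pow_orderOf_eq_one]) L.t_mul_t L.t_ne htx.symm) (by rw [hc]; norm_num)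
    (by norm_num) ?_
  have h1 := (center ↥(centralizer ({x} : Set Spor.Ly))).card_eq_card_quotient_mul_card_subgroup
  rw [hx.zcard, NotCT.Orders.mcl hx.quot] at h1
  rw [h1]
  norm_num

theorem evIn_co2 : EvIn 3 Spor.Co2 := by
  have : Fact (Nat.Prime 3) := ⟨Nat.prime_three⟩
  have hc : Nat.card Spor.Co2 = 42305421312000 := NotCT.Orders.co2 ⟨MulEquiv.refl _⟩
  have hm : Nat.card Spor.McL = 898128000 := NotCT.Orders.mcl ⟨MulEquiv.refl _⟩
  have : Finite Spor.Co2 := Nat.finite_of_card_ne_zero (by rw [hc]; norm_num)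
  have hle : Spor.McL ≤ Spor.Co2 := by
    rintro g ⟨⟨h1, -⟩, h2⟩
    exact ⟨h1, h2⟩
  refine evIn_of_injective_card (n := 6) (inclusion hle) (inclusion_injective hle) ?_ ?_ evIn_mcl
  · rw [hc]; norm_num
  · rw [hm]; norm_num

/-! ### `Co3`, `M` -/

open Cfsg.Agent.H711.CoThreeRow Cfsg.Agent.SporRec.Co3.Chain Cfsg.Agent.SporRec.Co3.Ident
open Cfsg.Agent.CpAutCo3.EGrp Cfsg.Agent.CpAutCo3.Words Cfsg.Agent.CpAutCo3.TwoA in
theorem evIn_G3 : EvIn 3 G3 := by
  have : Fact (Nat.Prime 3) := ⟨Nat.prime_three⟩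
  obtain ⟨E, hE, h243, m1, m2, m3, m4, m5, hd⟩ := exists_E5
  have mz : z ∈ E := mul_mem (mul_mem m1 m2) m3
  have hz3 : z ^ 3 = 1 := hE.exp z mz
  have hf : Finite G3 := Nat.finite_of_card_ne_zero (by rw [isCo3_G3.2]; norm_num)
  refine evIn_of_real_card (n := 7) (m := 226688000) (by norm_num) (orderOf_eq_prime hz3 e123_ne) ?_
    (by rw [isCo3_G3.2]; norm_num) (by norm_num) card_cent_z
  refine isConj_iff.2 ⟨r, ?_⟩
  have h1 : z * z = z⁻¹ := by
    rw [eq_inv_iff_mul_eq_one, ← pow_two, ← pow_succ]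
    exact hz3
  rw [mul_inv_eq_iff_eq_mul, rz, h1]

theorem evIn_co3 : EvIn 3 Spor.Co3 := by
  have : Fact (Nat.Prime 3) := ⟨Nat.prime_three⟩
  have hf : Finite Cfsg.Agent.SporRec.Co3.Chain.G3 := Nat.finite_of_card_ne_zero (by
    rw [Cfsg.Agent.SporRec.Co3.Chain.isCo3_G3.2]; norm_num)
  exact EvIn.congr SporRec.Co3.Model.equivCo3 evIn_G3

end Cfsg.Agent.H711.EvA
end

-- part: H711/EvOmega
section
/-!
# The centralizer of a Sylow 3-subgroup of `PΩ8+(3)`

It is generated by a long root element, which is real.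
-/

set_option autoImplicit false

open QuadraticMap Matrix Cfsg.Agent.ClassicalGeometry.Reflection Cfsg.Agent.ClassicalGeometry.Eichler
open Cfsg.Agent.LieClassical.OrthForms
open scoped commutatorElement

namespace Cfsg.Agent.H711.EvOmega

open Cfsg

/-- the index set -/
abbrev I8 : Type := Fin 4 ⊕ Fin 4
/-- the field -/
abbrev F3 : Type := ZMod 3
/-- the form -/
abbrev Q8 : QuadraticForm F3 (I8 → F3) := plusForm 4 (ZMod 3)

/-! ### matrices -/

theorem mul_single' (G : Matrix I8 I8 F3) (p q a b : I8) :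
    (G * Matrix.single p q (1 : F3)) a b = if b = q then G a p else 0 := by
  by_cases h : b = q
  · subst h
    rw [Matrix.mul_single_apply_same, mul_one, if_pos rfl]
  · rw [Matrix.mul_single_apply_of_ne _ _ _ _ _ h, if_neg h]

theorem single_mul' (G : Matrix I8 I8 F3) (p q a b : I8) :
    (Matrix.single p q (1 : F3) * G) a b = if a = p then G q b else 0 := by
  by_cases h : a = p
  · subst h
    rw [Matrix.single_mul_apply_same, one_mul, if_pos rfl]
  · rw [Matrix.single_mul_apply_of_ne _ _ _ _ _ h, if_neg h]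

/-- `E(u, w) - 1` for basis vectors -/
def Nm (p q r s : I8) : Matrix I8 I8 F3 := Matrix.single p q 1 - Matrix.single r s 1

theorem key {G : Matrix I8 I8 F3} {p q r s : I8} (h : G * Nm p q r s = Nm p q r s * G) (a b : I8) :
    (if b = q then G a p else 0) - (if b = s then G a r else 0) =
      (if a = p then G q b else 0) - (if a = r then G s b else 0) := by
  have h1 := congrFun (congrFun h a) b
  unfold Nm at h1
  rwa [Matrix.mul_sub, Matrix.sub_mul, Matrix.sub_apply, Matrix.sub_apply, mul_single', mul_single', single_mul',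
    single_mul'] at h1

theorem comm_matrix {G : Matrix I8 I8 F3}
    (h1 : ∀ j : Fin 4, j ≠ 0 → G * Nm (.inl j) (.inr 0) (.inl 0) (.inr j) = Nm (.inl j) (.inr 0) (.inl 0) (.inr j) * G)
    (h2 : ∀ j : Fin 4, j ≠ 0 → G * Nm (.inr j) (.inr 0) (.inl 0) (.inl j) = Nm (.inr j) (.inr 0) (.inl 0) (.inl j) * G)
    (h3 : ∀ j : Fin 4, j ≠ 0 → j ≠ 1 →
      G * Nm (.inl j) (.inr 1) (.inl 1) (.inr j) = Nm (.inl j) (.inr 1) (.inl 1) (.inr j) * G)
    (h4 : ∀ j : Fin 4, j ≠ 0 → j ≠ 1 →
      G * Nm (.inr j) (.inr 1) (.inl 1) (.inl j) = Nm (.inr j) (.inr 1) (.inl 1) (.inl j) * G)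
    {l b c : F3} (hl : G (.inl 0) (.inl 0) = l) (hb : G (.inl 0) (.inr 1) = b) (hc : G (.inl 0) (.inr 0) = c) :
    G = l • 1 + b • Nm (.inl 0) (.inr 1) (.inl 1) (.inr 0) + c • Matrix.single (.inl 0) (.inr 0) 1 := by
  have F1 : ∀ a : I8, a ≠ .inl 0 → G a (.inl 0) = 0 := by
    intro a ha
    by_cases ha1 : a = .inl 1
    · have := key (h1 2 (by decide)) a (.inr 2)
      rw [ha1] at this ⊢
      simpa using this
    · have := key (h1 1 (by decide)) a (.inr 1)
      simpa [ha, ha1] using this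
  have F2 : ∀ j : Fin 4, j ≠ 0 → ∀ a : I8, a ≠ .inl 0 → a ≠ .inl j → G a (.inl j) = 0 := by
    intro j hj a ha ha'
    have := key (h1 j hj) a (.inr 0)
    simpa [ha, ha', hj.symm] using this
  have F3' : ∀ j : Fin 4, j ≠ 0 → ∀ a : I8, a ≠ .inl 0 → a ≠ .inr j → G a (.inr j) = 0 := by
    intro j hj a ha ha'
    have := key (h2 j hj) a (.inr 0)
    simpa [ha, ha', hj.symm] using this
  have F4 : ∀ j : Fin 4, j ≠ 0 → G (.inr j) (.inr j) = l := by
    intro j hj
    have := key (h1 j hj) (.inl 0) (.inr j)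
    rw [← hl]
    simpa [hj, hj.symm] using this.symm
  have F5 : ∀ j : Fin 4, j ≠ 0 → G (.inl j) (.inl j) = l := by
    intro j hj
    have := key (h2 j hj) (.inl 0) (.inl j)
    rw [← hl]
    simpa [hj, hj.symm] using this.symm
  have F6 : G (.inr 0) (.inr 0) = l := by
    have := key (h1 1 (by decide)) (.inl 1) (.inr 0)
    rw [← F5 1 (by decide)]
    simpa using this.symm
  have F7 : ∀ j : Fin 4, j ≠ 0 → G (.inr j) (.inr 0) = - G (.inl 0) (.inl j) := by
    intro j hj
    have := key (h1 j hj) (.inl 0) (.inr 0)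
    have h5 : G (.inl 0) (.inl j) = - G (.inr j) (.inr 0) := by simpa [hj, hj.symm] using this
    rw [h5, neg_neg]
  have F8 : ∀ j : Fin 4, j ≠ 0 → G (.inl j) (.inr 0) = - G (.inl 0) (.inr j) := by
    intro j hj
    have := key (h2 j hj) (.inl 0) (.inr 0)
    have h5 : G (.inl 0) (.inr j) = - G (.inl j) (.inr 0) := by simpa [hj, hj.symm] using this
    rw [h5, neg_neg]
  have F9 : ∀ j : Fin 4, j ≠ 0 → G (.inl 0) (.inl j) = 0 := by
    intro j hj
    by_cases hj1 : j = 1
    · have := key (h3 2 (by decide) (by decide)) (.inl 0) (.inr 2)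
      rw [hj1]
      simpa using this
    · have := key (h3 j hj hj1) (.inl 0) (.inr 1)
      simpa [hj, hj.symm, hj1, Ne.symm hj1] using this
  have F10 : ∀ j : Fin 4, j ≠ 0 → j ≠ 1 → G (.inl 0) (.inr j) = 0 := by
    intro j hj hj1
    have := key (h4 j hj hj1) (.inl 0) (.inr 1)
    simpa [hj, hj.symm, hj1, Ne.symm hj1] using this
  ext a x
  rw [Matrix.add_apply, Matrix.add_apply, Matrix.smul_apply, Matrix.smul_apply, Matrix.smul_apply, Nm, Matrix.sub_apply]
  rcases x with x | x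
  · have e1 : ∀ p q : Fin 4, ∀ r : I8, Matrix.single r (.inr q) (1 : F3) a (.inl p : I8) = 0 := by
      intro p q r
      rw [Matrix.single_apply, if_neg]
      rintro ⟨-, h⟩
      exact absurd h (by simp)
    rw [e1, e1, e1, sub_zero, smul_zero, smul_zero, add_zero, add_zero, smul_eq_mul]
    by_cases hx : x = 0
    · rw [hx]
      by_cases ha : a = .inl 0
      · rw [ha, hl, Matrix.one_apply_eq, mul_one]
      · rw [F1 a ha, Matrix.one_apply_ne ha, mul_zero]
    · by_cases ha : a = .inl x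
      · rw [ha, F5 x hx, Matrix.one_apply_eq, mul_one]
      · rw [Matrix.one_apply_ne ha, mul_zero]
        by_cases ha0 : a = .inl 0
        · rw [ha0, F9 x hx]
        · exact F2 x hx a ha0 ha
  · by_cases hx : x = 0
    · subst hx
      rw [Matrix.single_apply_of_col_ne _ _ (by decide : (Sum.inr 1 : I8) ≠ .inr 0)]
      rcases a with a | a
      · rw [Matrix.one_apply_ne (by simp)]
        by_cases ha : a = 0
        · subst ha
          rw [hc, Matrix.single_apply_of_row_ne (by decide : (Sum.inl 1 : I8) ≠ .inl 0), Matrix.single_apply_same]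
          simp
        · rw [F8 a ha, Matrix.single_apply_of_row_ne (i := (Sum.inl 0 : I8)) (by simpa using (Ne.symm ha))]
          by_cases ha1 : a = 1
          · subst ha1
            rw [hb, Matrix.single_apply_same]
            simp
          · rw [F10 a ha ha1, Matrix.single_apply_of_row_ne (by simpa using (Ne.symm ha1))]
            simp
      · rw [Matrix.single_apply_of_row_ne (by simp), Matrix.single_apply_of_row_ne (by simp)]
        by_cases ha : a = 0
        · subst ha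
          rw [F6, Matrix.one_apply_eq]
          simp
        · rw [F7 a ha, F9 a ha, Matrix.one_apply_ne (by simpa using ha)]
          simp
    · rw [Matrix.single_apply_of_col_ne (j := (Sum.inr 0 : I8)) _ _ (by simpa using (Ne.symm hx)),
        Matrix.single_apply_of_col_ne (j := (Sum.inr 0 : I8)) _ _ (by simpa using (Ne.symm hx))]
      by_cases ha : a = .inr x
      · subst ha
        rw [F4 x hx, Matrix.one_apply_eq, Matrix.single_apply_of_row_ne (by simp)]
        simp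
      · rw [Matrix.one_apply_ne ha]
        by_cases ha0 : a = .inl 0
        · subst ha0
          by_cases hx1 : x = 1
          · subst hx1
            rw [hb, Matrix.single_apply_same]
            simp
          · rw [F10 x hx hx1, Matrix.single_apply_of_col_ne _ _ (by simpa using (Ne.symm hx1))]
            simp
        · rw [F3' x hx a ha0 ha, Matrix.single_apply_of_row_ne (Ne.symm ha0)]
          simp

/-! ### elements -/

/-- the isometry group -/
abbrev O8 : Type := ↥(isometryGroup F3 (⇑Q8))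

/-- the matrix of an isometry -/
def mat (g : O8) : Matrix I8 I8 F3 := ((g : Matrix.GeneralLinearGroup I8 F3) : Matrix I8 I8 F3)

theorem mat_mul (g h : O8) : mat (g * h) = mat g * mat h := rfl

theorem mat_one : mat 1 = 1 := rfl

theorem mat_injective : Function.Injective mat := fun _ _ h => Subtype.ext (Units.ext h)

theorem mat_eichler {u w : I8 → F3} (hu : Q8 u = 0) (huw : polar (⇑Q8) u w = 0) :
    mat (eichlerIso Q8 u w hu huw) = eichlerMatrix Q8 u w := rfl

theorem q_mulVec (g : O8) (x : I8 → F3) : Q8 (mat g *ᵥ x) = Q8 x := (mem_isometryGroup_iff _ _).1 g.2 x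

/-- basis -/
def e (i : Fin 4) : I8 → F3 := Pi.single (.inl i) 1
/-- basis -/
def f (i : Fin 4) : I8 → F3 := Pi.single (.inr i) 1

theorem q_apply (x : I8 → F3) : Q8 x = ∑ i : Fin 4, x (.inl i) * x (.inr i) := by
  have := congrFun (coe_plusForm (m := 4) (F := ZMod 3)) x
  exact this

theorem polar_e (i : Fin 4) (x : I8 → F3) : polar (⇑Q8) (e i) x = x (.inr i) := by
  rw [polar_plusForm, Finset.sum_eq_single i]
  · simp [e]
  · intro j _ hj
    simp [e, hj]
  · intro h
    exact absurd (Finset.mem_univ i) h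

theorem polar_f (i : Fin 4) (x : I8 → F3) : polar (⇑Q8) (f i) x = x (.inl i) := by
  rw [polar_plusForm, Finset.sum_eq_single i]
  · simp [f]
  · intro j _ hj
    simp [f, hj]
  · intro h
    exact absurd (Finset.mem_univ i) h

theorem q_e (i : Fin 4) : Q8 (e i) = 0 := by
  rw [q_apply]
  exact Finset.sum_eq_zero fun j _ => by simp [e]

theorem q_f (i : Fin 4) : Q8 (f i) = 0 := by
  rw [q_apply]
  exact Finset.sum_eq_zero fun j _ => by simp [f]

theorem polarVec_e (i : Fin 4) : polarVec (⇑Q8) (e i) = f i := by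
  funext k
  rw [polarVec_apply, polar_e, f]
  simp [Pi.single_apply, eq_comm]

theorem polarVec_f (i : Fin 4) : polarVec (⇑Q8) (f i) = e i := by
  funext k
  rw [polarVec_apply, polar_f, e]
  simp [Pi.single_apply, eq_comm]

theorem eichler_ee (i j : Fin 4) : eichlerMatrix Q8 (e i) (e j) = 1 + Nm (.inl j) (.inr i) (.inl i) (.inr j) := by
  rw [eichlerMatrix_def, q_e, zero_smul, sub_zero, polarVec_e, polarVec_e, Nm]
  congr 2
  · exact (Matrix.single_eq_single_vecMulVec_single _ _).symm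
  · exact (Matrix.single_eq_single_vecMulVec_single _ _).symm

theorem eichler_ef (i j : Fin 4) : eichlerMatrix Q8 (e i) (f j) = 1 + Nm (.inr j) (.inr i) (.inl i) (.inl j) := by
  rw [eichlerMatrix_def, q_f, zero_smul, sub_zero, polarVec_e, polarVec_f, Nm]
  congr 2
  · exact (Matrix.single_eq_single_vecMulVec_single _ _).symm
  · exact (Matrix.single_eq_single_vecMulVec_single _ _).symm

theorem comm_of {G N : Matrix I8 I8 F3} (h : G * (1 + N) = (1 + N) * G) : G * N = N * G := by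
  rw [mul_add, add_mul, mul_one, one_mul] at h
  exact add_left_cancel h

/-- an isometry from an involutory matrix -/
def ofInv (M : Matrix I8 I8 F3) (h : M * M = 1) (hq : ∀ x, Q8 (M *ᵥ x) = Q8 x) : O8 :=
  ⟨⟨M, M, h, h⟩, (mem_isometryGroup_iff _ _).2 hq⟩

/-- `-1` on the `i`-th hyperbolic plane -/
def dv (i : Fin 4) (a : I8) : F3 := if a = .inl i ∨ a = .inr i then -1 else 1

theorem dv_sq (i : Fin 4) (a : I8) : dv i a * dv i a = 1 := by
  unfold dv; split_ifs <;> decide

/-- `-1` on the `i`-th hyperbolic plane -/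
def tor (i : Fin 4) : O8 := ofInv (Matrix.diagonal (dv i))
  (by
    rw [Matrix.diagonal_mul_diagonal]
    have : (fun a => dv i a * dv i a) = fun _ => 1 := funext (dv_sq i)
    rw [this, Matrix.diagonal_one])
  (fun x => by
    rw [q_apply, q_apply]
    refine Finset.sum_congr rfl fun k _ => ?_
    rw [Matrix.mulVec_diagonal, Matrix.mulVec_diagonal]
    by_cases h : k = i
    · simp [dv, h]
    · simp [dv, h])

theorem mat_tor (i : Fin 4) : mat (tor i) = Matrix.diagonal (dv i) := rfl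

/-- the transposition of two hyperbolic planes -/
def sw (a : I8) : I8 := Sum.map (Equiv.swap 0 2) (Equiv.swap 0 2) a

theorem sw_sw (a : I8) : sw (sw a) = a := by
  rcases a with a | a <;> simp [sw]

/-- the transposition of two hyperbolic planes -/
def swM : Matrix I8 I8 F3 := Matrix.of fun a b => if b = sw a then 1 else 0

theorem swM_mulVec (x : I8 → F3) (a : I8) : (swM *ᵥ x) a = x (sw a) := by
  simp [swM, Matrix.mulVec, dotProduct]

/-- the transposition of two hyperbolic planes -/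
def swap : O8 := ofInv swM
  (by
    apply Matrix.mulVec_injective
    funext x
    rw [← Matrix.mulVec_mulVec, Matrix.one_mulVec]
    funext a
    rw [swM_mulVec, swM_mulVec, sw_sw])
  (fun x => by
    rw [q_apply, q_apply]
    simp only [swM_mulVec]
    exact Equiv.sum_comp (Equiv.swap (0 : Fin 4) 2) fun i => x (.inl i) * x (.inr i))

theorem tor_inv (i : Fin 4) : (tor i)⁻¹ = tor i :=
  inv_eq_of_mul_eq_one_left (mat_injective (by
    rw [mat_mul, mat_tor, Matrix.diagonal_mul_diagonal, mat_one]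
    have : (fun a => dv i a * dv i a) = fun _ => 1 := funext (dv_sq i)
    rw [this, Matrix.diagonal_one]))

/-- `-1` on two hyperbolic planes -/
def sg : O8 := tor 0 * tor 2

theorem sg_eq : sg = ⁅tor 0, swap⁆ := by
  have h : swap * tor 0 * swap⁻¹ = tor 2 := by
    rw [mul_inv_eq_iff_eq_mul]
    apply mat_injective
    rw [mat_mul, mat_mul, mat_tor, mat_tor]
    ext a b
    rw [Matrix.mul_diagonal, Matrix.diagonal_mul]
    show swM a b * dv 0 b = dv 2 a * swM a b
    unfold swM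
    rw [Matrix.of_apply]
    split_ifs with hb
    · rw [hb, one_mul, mul_one]
      have key : ∀ a : I8, dv 0 (sw a) = dv 2 a := by decide
      exact key a
    · rw [zero_mul, mul_zero]
  rw [commutatorElement_def, tor_inv, sg, ← h]
  group

theorem sg_mem : sg ∈ commutator O8 := by
  rw [sg_eq]
  exact Subgroup.commutator_mem_commutator (Subgroup.mem_top _) (Subgroup.mem_top _)

theorem mat_sg : mat sg = Matrix.diagonal fun a => dv 0 a * dv 2 a := by
  rw [sg, mat_mul, mat_tor, mat_tor, Matrix.diagonal_mul_diagonal]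

/-! ### root groups -/

theorem two_smul_neg (w : I8 → F3) : -w + -w = w := by
  funext a
  show -w a + -w a = w a
  generalize w a = x
  revert x
  decide

theorem eichler_neg (u w : I8 → F3) : eichlerMatrix Q8 (-u) w = eichlerMatrix Q8 u (-w) := by
  apply Matrix.mulVec_injective
  funext x
  rw [eichlerMatrix_mulVec, eichlerMatrix_mulVec, QuadraticMap.polar_neg_left, QuadraticMap.polar_neg_left,
    QuadraticMap.map_neg]
  ext i
  simp only [Pi.add_apply, Pi.sub_apply, Pi.smul_apply, smul_eq_mul, Pi.neg_apply]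
  ring

theorem mem_commutator {u w : I8 → F3} (hu : Q8 u = 0) (huw : polar (⇑Q8) u w = 0) {h : O8}
    (h1 : mat h *ᵥ u = -u) (h2 : mat h *ᵥ w = w) : eichlerIso Q8 u w hu huw ∈ commutator O8 := by
  have huw' : polar (⇑Q8) u (-w) = 0 := by rw [QuadraticMap.polar_neg_right, huw, neg_zero]
  have hu' : Q8 (mat h *ᵥ u) = 0 := by rw [q_mulVec, hu]
  have huw2 : polar (⇑Q8) (mat h *ᵥ u) (mat h *ᵥ w) = 0 := by
    rw [h1, h2, QuadraticMap.polar_neg_left, huw, neg_zero]
  have key : eichlerIso Q8 u w hu huw = ⁅eichlerIso Q8 u (-w) hu huw', h⁆ := by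
    have e0 : (eichlerIso Q8 u (-w) hu huw')⁻¹ = eichlerIso Q8 u w hu huw := by
      rw [eichlerIso_inv]
      apply mat_injective
      rw [mat_eichler, mat_eichler, neg_neg]
    have e1 : h * eichlerIso Q8 u w hu huw * h⁻¹ = eichlerIso Q8 (mat h *ᵥ u) (mat h *ᵥ w) hu' huw2 :=
      conj_eichlerIso Q8 u w hu huw h hu' huw2
    rw [commutatorElement_def, e0, mul_assoc, mul_assoc, ← mul_assoc h, e1]
    apply mat_injective
    rw [mat_mul, mat_eichler, mat_eichler, mat_eichler, h1, h2, eichler_neg, eichlerMatrix_mul Q8 u _ _ hu huw' huw',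
      two_smul_neg]
  rw [key]
  exact Subgroup.commutator_mem_commutator (Subgroup.mem_top _) (Subgroup.mem_top _)

/-- the unipotent radical of the stabiliser of `e i`, for vectors in the submodule given by `Z` -/
def rad (i : Fin 4) (Z : Set I8) (hZ : Sum.inr i ∈ Z) : Subgroup O8 where
  carrier := {g | ∃ w : I8 → F3, (∀ a ∈ Z, w a = 0) ∧ mat g = eichlerMatrix Q8 (e i) w}
  one_mem' := ⟨0, fun _ _ => rfl, by rw [eichlerMatrix_zero]; rfl⟩
  mul_mem' := by
    rintro g g' ⟨w, hw, hg⟩ ⟨w', hw', hg'⟩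
    refine ⟨w + w', fun a ha => by rw [Pi.add_apply, hw a ha, hw' a ha, add_zero], ?_⟩
    rw [mat_mul, hg, hg', eichlerMatrix_mul Q8 _ _ _ (q_e i) (by rw [polar_e, hw _ hZ]) (by rw [polar_e, hw' _ hZ])]
  inv_mem' := by
    rintro g ⟨w, hw, hg⟩
    have h1 : polar (⇑Q8) (e i) w = 0 := by rw [polar_e, hw _ hZ]
    have h2 : g = eichlerIso Q8 (e i) w (q_e i) h1 := mat_injective hg
    refine ⟨-w, fun a ha => by rw [Pi.neg_apply, hw a ha, neg_zero], ?_⟩
    rw [h2, eichlerIso_inv, mat_eichler]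

theorem rad_cube {i : Fin 4} {Z : Set I8} {hZ : Sum.inr i ∈ Z} {g : O8} (hg : g ∈ rad i Z hZ) : g ^ 3 = 1 := by
  obtain ⟨w, hw, hg⟩ := hg
  have h1 : polar (⇑Q8) (e i) w = 0 := by rw [polar_e, hw _ hZ]
  apply mat_injective
  rw [pow_succ, pow_two, mat_mul, mat_mul, hg, eichlerMatrix_mul Q8 _ _ _ (q_e i) h1 h1,
    eichlerMatrix_mul Q8 _ _ _ (q_e i) (by rw [QuadraticMap.polar_add_right, h1, add_zero]) h1]
  have h2 : w + w + w = 0 := by
    funext a
    show w a + w a + w a = 0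
    generalize w a = x
    revert x
    decide
  rw [h2, eichlerMatrix_zero]
  rfl

theorem isPGroup_rad {i : Fin 4} {Z : Set I8} {hZ : Sum.inr i ∈ Z} : IsPGroup 3 (rad i Z hZ) := fun g =>
  ⟨1, Subtype.ext (rad_cube g.2)⟩

theorem rad_le {i : Fin 4} {Z : Set I8} {hZ : Sum.inr i ∈ Z} (hZ' : Sum.inl i ∈ Z) : rad i Z hZ ≤ commutator O8 := by
  rintro g ⟨w, hw, hg⟩
  have h1 : polar (⇑Q8) (e i) w = 0 := by rw [polar_e, hw _ hZ]
  have h2 : g = eichlerIso Q8 (e i) w (q_e i) h1 := mat_injective hg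
  rw [h2]
  refine mem_commutator (q_e i) h1 (h := tor i) ?_ ?_
  · funext a
    rw [mat_tor, Matrix.mulVec_diagonal]
    by_cases ha : a = .inl i
    · subst ha
      simp [dv, e]
    · simp [e, ha]
  · funext a
    rw [mat_tor, Matrix.mulVec_diagonal]
    by_cases ha : a = .inl i
    · rw [ha, hw _ hZ', mul_zero]
    · by_cases ha' : a = .inr i
      · rw [ha', hw _ hZ, mul_zero]
      · rw [dv, if_neg (by (clear * - i a ha ha'; tauto)), one_mul]

/-- coordinates of the first plane -/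
def Z0 : Set I8 := {a | a = .inl 0 ∨ a = .inr 0}
/-- coordinates of the first two planes -/
def Z1 : Set I8 := {a | a = .inl 0 ∨ a = .inr 0 ∨ a = .inl 1 ∨ a = .inr 1}

/-- first radical -/
def B0 : Subgroup O8 := rad 0 Z0 (Or.inr rfl)
/-- second radical -/
def B1 : Subgroup O8 := rad 1 Z1 (Or.inr (Or.inr (Or.inr rfl)))

theorem B1_norm : B1 ≤ Subgroup.normalizer (B0 : Set O8) := by
  have key : ∀ g ∈ B1, ∀ x ∈ B0, g * x * g⁻¹ ∈ B0 := by
    rintro g ⟨w1, hw1, hg⟩ x ⟨w, hw, hx⟩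
    have p1 : polar (⇑Q8) (e 0) w = 0 := by rw [polar_e, hw _ (Or.inr rfl)]
    have x1 : x = eichlerIso Q8 (e 0) w (q_e 0) p1 := mat_injective hx
    have g0 : mat g *ᵥ (e 0) = e 0 := by
      rw [hg, eichlerMatrix_mulVec, polar_e, polar_comm, polar_e, hw1 _ (Or.inr (Or.inl rfl))]
      simp [e]
    have p2 : Q8 (mat g *ᵥ (e 0)) = 0 := by rw [g0, q_e]
    have p3 : polar (⇑Q8) (mat g *ᵥ (e 0)) (mat g *ᵥ w) = 0 := by
      rw [polar_mulVec_of_isometry Q8 _ (q_mulVec g), p1]
    have h3 : g * x * g⁻¹ = eichlerIso Q8 (mat g *ᵥ (e 0)) (mat g *ᵥ w) p2 p3 := by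
      rw [x1]
      exact conj_eichlerIso Q8 (e 0) w (q_e 0) p1 g p2 p3
    refine ⟨mat g *ᵥ w, ?_, ?_⟩
    · intro a ha
      rw [hg, eichlerMatrix_mulVec]
      have ha1 : w1 a = 0 := by
        rcases ha with rfl | rfl
        · exact hw1 _ (Or.inl rfl)
        · exact hw1 _ (Or.inr (Or.inl rfl))
      have ha2 : e 1 a = 0 := by
        rcases ha with rfl | rfl <;> simp [e]
      simp only [Pi.add_apply, Pi.sub_apply, Pi.smul_apply, smul_eq_mul, ha1, ha2, hw a ha]
      ring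
    · rw [h3, mat_eichler, g0]
  intro g hg
  rw [Subgroup.mem_normalizer_iff]
  intro x
  refine ⟨key g hg x, fun h => ?_⟩
  have := key g⁻¹ (inv_mem hg) _ h
  have e2 : g⁻¹ * (g * x * g⁻¹) * g⁻¹⁻¹ = x := by group
  rwa [e2] at this

theorem isPGroup_sup : IsPGroup 3 ↥(B0 ⊔ B1) := by
  have h := IsPGroup.to_sup_of_normal_left' (H := B0) (K := B1) (p := 3) isPGroup_rad isPGroup_rad B1_norm
  exact h

theorem sup_le_comm : B0 ⊔ B1 ≤ commutator O8 :=
  sup_le (rad_le (Or.inl rfl)) (rad_le (Or.inr (Or.inr (Or.inl rfl))))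

/-! ### the centralizer -/

/-- `1 - E(e0, e1)` -/
def N1 : Matrix I8 I8 F3 := Nm (.inl 0) (.inr 1) (.inl 1) (.inr 0)

theorem N1_sq : N1 * N1 = 0 := by
  unfold N1 Nm
  rw [Matrix.mul_sub, Matrix.sub_mul, Matrix.sub_mul]
  rw [Matrix.single_mul_single_of_ne _ _ _ _ (by decide), Matrix.single_mul_single_of_ne _ _ _ _ (by decide),
    Matrix.single_mul_single_of_ne _ _ _ _ (by decide), Matrix.single_mul_single_of_ne _ _ _ _ (by decide)]
  simp

/-- the long root element -/
def E1 : O8 := eichlerIso Q8 (e 0) (e 1) (q_e 0) (by rw [polar_e]; simp [e])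

theorem mat_E1 : mat E1 = 1 - N1 := by
  show eichlerMatrix Q8 (e 0) (e 1) = _
  rw [eichler_ee, N1, Nm, Nm]
  abel

theorem E1_mem : E1 ∈ B0 := ⟨e 1, by rintro a (rfl | rfl) <;> simp [e], rfl⟩

theorem mat_E1_pow (n : ℕ) : mat (E1 ^ n) = 1 - (n : F3) • N1 := by
  induction n with
  | zero => rw [pow_zero, mat_one, Nat.cast_zero, zero_smul, sub_zero]
  | succ n ih =>
    rw [pow_succ, mat_mul, ih, mat_E1, mul_sub, mul_one, sub_mul, smul_mul_assoc, N1_sq, smul_zero, sub_zero, one_mul,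
      Nat.cast_succ, add_smul, one_smul]
    abel

theorem comm_O {g : O8} (h0 : ∀ a ∈ B0, g * a = a * g) (h1 : ∀ a ∈ B1, g * a = a * g) :
    ∃ l b : F3, l * l = 1 ∧ mat g = l • 1 + b • N1 := by
  obtain ⟨l, hl⟩ : ∃ l, mat g (.inl 0) (.inl 0) = l := ⟨_, rfl⟩
  obtain ⟨b, hb⟩ : ∃ b, mat g (.inl 0) (.inr 1) = b := ⟨_, rfl⟩
  obtain ⟨c, hc⟩ : ∃ c, mat g (.inl 0) (.inr 0) = c := ⟨_, rfl⟩
  have c0 : ∀ w : I8 → F3, (∀ a ∈ Z0, w a = 0) → mat g * eichlerMatrix Q8 (e 0) w = eichlerMatrix Q8 (e 0) w * mat g := by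
    intro w hw
    have p : polar (⇑Q8) (e 0) w = 0 := by rw [polar_e, hw _ (Or.inr rfl)]
    have hm : eichlerIso Q8 (e 0) w (q_e 0) p ∈ B0 := ⟨w, hw, mat_eichler (q_e 0) p⟩
    have h2 := congrArg mat (h0 _ hm)
    rw [mat_mul, mat_mul, mat_eichler] at h2
    exact h2
  have c1 : ∀ w : I8 → F3, (∀ a ∈ Z1, w a = 0) → mat g * eichlerMatrix Q8 (e 1) w = eichlerMatrix Q8 (e 1) w * mat g := by
    intro w hw
    have p : polar (⇑Q8) (e 1) w = 0 := by rw [polar_e, hw _ (Or.inr (Or.inr (Or.inr rfl)))]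
    have hm : eichlerIso Q8 (e 1) w (q_e 1) p ∈ B1 := ⟨w, hw, mat_eichler (q_e 1) p⟩
    have h2 := congrArg mat (h1 _ hm)
    rw [mat_mul, mat_mul, mat_eichler] at h2
    exact h2
  have hG := comm_matrix (G := mat g)
    (fun j hj => comm_of (by
      rw [← eichler_ee]
      exact c0 _ (by rintro a (rfl | rfl) <;> simp [e, Ne.symm hj])))
    (fun j hj => comm_of (by
      rw [← eichler_ef]
      exact c0 _ (by rintro a (rfl | rfl) <;> simp [f, Ne.symm hj])))
    (fun j hj hj1 => comm_of (by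
      rw [← eichler_ee]
      exact c1 _ (by rintro a (rfl | rfl | rfl | rfl) <;> simp [e, Ne.symm hj, Ne.symm hj1])))
    (fun j hj hj1 => comm_of (by
      rw [← eichler_ef]
      exact c1 _ (by rintro a (rfl | rfl | rfl | rfl) <;> simp [f, Ne.symm hj, Ne.symm hj1])))
    hl hb hc
  have hx : ∀ a, (mat g *ᵥ f 0) a = mat g a (.inr 0) := fun a => by simp [f]
  have hy : ∀ a, (mat g *ᵥ e 0) a = mat g a (.inl 0) := fun a => by simp [e]
  have hll : l * l = 1 := by
    have h2 := polar_mulVec_of_isometry Q8 (mat g) (q_mulVec g) (e 0) (f 0)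
    rw [polar_e, polar_plusForm] at h2
    simp only [hx, hy] at h2
    rw [hG] at h2
    simpa [Fin.sum_univ_four, Nm, Matrix.single_apply, f] using h2
  have hcl : c * l = 0 := by
    have h2 := q_mulVec g (f 0)
    rw [q_f, q_apply] at h2
    simp only [hx] at h2
    rw [hG] at h2
    simpa only [Fin.sum_univ_four, Nm, Matrix.single_apply, _root_.mul_eq_zero, _root_.Fin.isValue, _root_.Matrix.smul_single, _root_.smul_eq_mul, _root_.mul_one, _root_.Matrix.add_apply, _root_.Matrix.smul_apply, _root_.ne_eq, _root_.reduceCtorEq, _root_.not_false_eq_true, _root_.Matrix.one_apply_ne, _root_.MulZeroClass.mul_zero, _root_.Matrix.sub_apply, _root_.Sum.inl.injEq, _root_.Sum.inr.injEq, _root_.one_ne_zero, _root_.and_false, _root_.Matrix.single_apply_of_ne, _root_.and_true, _root_.zero_sub, _root_.mul_neg, _root_.mul_ite, _root_.zero_add, _root_.and_self, _root_.sub_self, _root_.add_zero, ↓ _root_.reduceIte, _root_.neg_zero, _root_.Matrix.one_apply_eq, _root_.zero_ne_one,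 _root_.Fin.reduceEq] using h2
  have hc0 : c = 0 := by
    have : c * (l * l) = 0 := by rw [← mul_assoc, hcl, zero_mul]
    rwa [hll, mul_one] at this
  refine ⟨l, b, hll, ?_⟩
  rw [hG, hc0, zero_smul, add_zero]
  rfl

/-! ### the main statement -/

/-- `Ω8+(3)` -/
abbrev Om : Subgroup O8 := commutator O8

/-- the long root element in `Ω` -/
def E' : ↥Om := ⟨E1, sup_le_comm (Subgroup.mem_sup_left E1_mem)⟩

/-- the inverting element in `Ω` -/
def s' : ↥Om := ⟨sg, sg_mem⟩

theorem E1_cube : E1 ^ 3 = 1 := rad_cube E1_mem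

theorem E'_cube : E' ^ 3 = 1 := Subtype.ext E1_cube

theorem mat_E1_inv : mat E1⁻¹ = 1 + N1 := by
  have h : E1⁻¹ = E1 ^ 2 := by
    rw [inv_eq_iff_mul_eq_one, ← pow_succ']
    exact E1_cube
  rw [h, mat_E1_pow, sub_eq_add_neg, ← neg_smul]
  have h2 : -((2 : ℕ) : F3) = 1 := by decide
  rw [h2, one_smul]

theorem sg_conj : sg * E1 * sg⁻¹ = E1⁻¹ := by
  rw [mul_inv_eq_iff_eq_mul]
  apply mat_injective
  rw [mat_mul, mat_mul, mat_E1, mat_E1_inv, mat_sg, mul_sub, add_mul, mul_one, one_mul, sub_eq_add_neg]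
  congr 1
  ext a b
  rw [Matrix.neg_apply, Matrix.diagonal_mul, Matrix.mul_diagonal]
  have key : ∀ a b : I8, -(dv 0 a * dv 2 a * N1 a b) = N1 a b * (dv 0 b * dv 2 b) := by
    unfold N1 Nm
    decide +kernel
  exact key a b

theorem s'_conj : s' * E' * s'⁻¹ = E'⁻¹ := Subtype.ext sg_conj

theorem E'_ne : E' ∉ Subgroup.center ↥Om := by
  intro h
  have h1 : s' * E' * s'⁻¹ = E' := by
    rw [Subgroup.mem_center_iff.1 h s', mul_inv_cancel_right]
  rw [s'_conj] at h1
  have h2 : E1⁻¹ = E1 := (congrArg Subtype.val h1 :)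
  have h3 := congrArg (fun g => mat g (.inl 0) (.inr 1)) h2
  simp only [mat_E1_inv, mat_E1, N1, Nm] at h3
  revert h3
  decide +kernel

theorem center_sq {z : ↥Om} (hz : z ∈ Subgroup.center ↥Om) : z * z = 1 := by
  have hc : ∀ a ∈ Om, (z : O8) * a = a * z := fun a ha =>
    congrArg Subtype.val (Subgroup.mem_center_iff.1 hz ⟨a, ha⟩).symm
  obtain ⟨l, b, hl, hm⟩ := comm_O (g := (z : O8)) (fun a ha => hc a (sup_le_comm (Subgroup.mem_sup_left ha)))
    (fun a ha => hc a (sup_le_comm (Subgroup.mem_sup_right ha)))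
  have h1 := congrArg (fun g => mat g (.inl 0) (.inr 1)) (hc sg sg_mem)
  simp only [mat_mul, mat_sg, Matrix.diagonal_mul, Matrix.mul_diagonal, hm] at h1
  have h2 : (l • (1 : Matrix I8 I8 F3) + b • N1) (.inl 0) (.inr 1) = b := by
    simp [N1, Nm]
  rw [h2] at h1
  have h3 : dv 0 (Sum.inr 1 : I8) * dv 2 (Sum.inr 1 : I8) = 1 := by decide
  have h4 : dv 0 (Sum.inl 0 : I8) * dv 2 (Sum.inl 0 : I8) = -1 := by decide
  rw [h3, h4, mul_one] at h1
  have hb : b = 0 := by
    have key : ∀ b : F3, b = -1 * b → b = 0 := by decide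
    exact key b h1
  apply Subtype.ext
  apply mat_injective
  show mat ((z : O8) * z) = mat 1
  rw [mat_mul, hm, hb, zero_smul, add_zero, smul_mul_smul_comm, hl, one_mul, one_smul]
  rfl

theorem mem_center_of_mat {x : ↥Om} {l : F3} (h : mat (x : O8) = l • 1) : x ∈ Subgroup.center ↥Om := by
  rw [Subgroup.mem_center_iff]
  intro g
  apply Subtype.ext
  apply mat_injective
  show mat ((g : O8) * x) = mat ((x : O8) * g)
  rw [mat_mul, mat_mul, h, smul_mul_assoc, mul_smul_comm, one_mul, mul_one]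

theorem exists_zpow {x : ↥Om} (h0 : ∀ a ∈ B0, (x : O8) * a = a * x) (h1 : ∀ a ∈ B1, (x : O8) * a = a * x) :
    ∃ m : ℕ, x * E' ^ m ∈ Subgroup.center ↥Om := by
  obtain ⟨l, b, hl, hm⟩ := comm_O h0 h1
  refine ⟨(b * l).val, mem_center_of_mat (l := l) ?_⟩
  show mat ((x : O8) * E1 ^ (b * l).val) = _
  rw [mat_mul, mat_E1_pow, hm, ZMod.natCast_zmod_val, add_mul, mul_sub, mul_one, smul_mul_smul_comm, one_mul, mul_sub,
    mul_one, smul_mul_smul_comm, N1_sq, smul_zero, sub_zero, ← mul_assoc, mul_comm l b, mul_assoc b, hl, mul_one]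
  abel

theorem comm_of_quot {x : ↥Om} {a : O8} (ha : a ∈ Om) (ha3 : a ^ 3 = 1)
    (h : (QuotientGroup.mk x : ↥Om ⧸ Subgroup.center ↥Om) * QuotientGroup.mk ⟨a, ha⟩ =
      QuotientGroup.mk ⟨a, ha⟩ * QuotientGroup.mk x) : (x : O8) * a = a * x := by
  obtain ⟨a', ha'⟩ : ∃ a' : ↥Om, a' = ⟨a, ha⟩ := ⟨_, rfl⟩
  rw [← ha'] at h
  have ha3' : a' ^ 3 = 1 := by rw [ha']; exact Subtype.ext ha3
  rw [← QuotientGroup.mk_mul, ← QuotientGroup.mk_mul, eq_comm, QuotientGroup.eq] at h
  obtain ⟨z, hz⟩ : ∃ z, z = (a' * x)⁻¹ * (x * a') := ⟨_, rfl⟩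
  rw [← hz] at h
  have hzc : ∀ g, Commute z g := fun g => (Subgroup.mem_center_iff.1 h g).symm
  have e1 : x * a' = a' * x * z := by rw [hz]; group
  have e2 : x * a' * x⁻¹ = a' * z := by
    rw [e1, mul_assoc a' x z, ← (hzc x).eq, ← mul_assoc, mul_inv_cancel_right]
  have e3 : (x * a' * x⁻¹) ^ 3 = 1 := by rw [conj_pow, ha3', mul_one, mul_inv_cancel]
  rw [e2, (hzc a').symm.mul_pow, ha3', one_mul] at e3
  have e4 := center_sq h
  have e5 : z = 1 := by
    rw [pow_succ, pow_two, e4, one_mul] at e3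
    exact e3
  rw [e5, mul_one] at e1
  have := congrArg Subtype.val e1
  rw [ha'] at this
  exact this

theorem main' : ∃ (U : Sylow 3 (↥Om ⧸ Subgroup.center ↥Om)) (y s : ↥Om ⧸ Subgroup.center ↥Om), y ∈ U ∧ y ^ 3 = 1 ∧
    (∀ u ∈ U, y * u = u * y) ∧ (∀ g, (∀ u ∈ U, g * u = u * g) → g ∈ Subgroup.zpowers y) ∧ s * y * s⁻¹ = y⁻¹ := by
  have h3 : Fact (Nat.Prime 3) := ⟨Nat.prime_three⟩
  have hM : IsPGroup 3 ↥((B0 ⊔ B1).subgroupOf Om) := isPGroup_sup.comap_of_injective _ (Subgroup.subtype_injective _)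
  obtain ⟨U0, hU0⟩ := hM.exists_le_sylow
  have hs : Function.Surjective (QuotientGroup.mk' (Subgroup.center ↥Om)) := QuotientGroup.mk'_surjective _
  obtain ⟨U, hU⟩ : ∃ U : Sylow 3 (↥Om ⧸ Subgroup.center ↥Om), U = U0.mapSurjective hs := ⟨_, rfl⟩
  have hmem : ∀ x ∈ U0, (QuotientGroup.mk x : ↥Om ⧸ Subgroup.center ↥Om) ∈ U := fun x hx => by
    rw [hU]
    exact Subgroup.mem_map_of_mem _ hx
  obtain ⟨y, hy⟩ : ∃ y : ↥Om ⧸ Subgroup.center ↥Om, y = QuotientGroup.mk E' := ⟨_, rfl⟩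
  have hB : ∀ a (ha : a ∈ B0 ⊔ B1), (QuotientGroup.mk (⟨a, sup_le_comm ha⟩ : ↥Om) : ↥Om ⧸ Subgroup.center ↥Om) ∈ U :=
    fun a ha => hmem _ (hU0 (Subgroup.mem_subgroupOf.2 ha))
  have hyU : y ∈ U := by
    rw [hy]
    exact hB E1 (Subgroup.mem_sup_left E1_mem)
  have hy3 : y ^ 3 = 1 := by
    rw [hy, ← QuotientGroup.mk_pow, E'_cube]
    rfl
  have hy1 : y ≠ 1 := by
    rw [hy]
    intro h
    exact E'_ne ((QuotientGroup.eq_one_iff _).1 h)
  have hcen : ∀ g, (∀ u ∈ U, g * u = u * g) → g ∈ Subgroup.zpowers y := by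
    intro g hg
    obtain ⟨x, rfl⟩ := hs g
    obtain ⟨m, hm⟩ := exists_zpow (x := x)
      (fun a ha => comm_of_quot (sup_le_comm (Subgroup.mem_sup_left ha)) (rad_cube ha) (hg _ (hB a (Subgroup.mem_sup_left ha))))
      (fun a ha => comm_of_quot (sup_le_comm (Subgroup.mem_sup_right ha)) (rad_cube ha) (hg _ (hB a (Subgroup.mem_sup_right ha))))
    have h5 : (QuotientGroup.mk x : ↥Om ⧸ Subgroup.center ↥Om) * y ^ m = 1 := by
      rw [hy, ← QuotientGroup.mk_pow, ← QuotientGroup.mk_mul, QuotientGroup.eq_one_iff]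
      exact hm
    rw [QuotientGroup.mk'_apply, eq_inv_of_mul_eq_one_left h5]
    exact inv_mem (pow_mem (Subgroup.mem_zpowers y) m)
  have hord : orderOf y = 3 := orderOf_eq_prime hy3 hy1
  have hdvd : 3 ∣ Nat.card (↥Om ⧸ Subgroup.center ↥Om) := by
    have := orderOf_dvd_natCard y
    rwa [hord] at this
  obtain ⟨w, hwU, hw, hwc⟩ := Crit.exists_central U hdvd
  refine ⟨U, y, QuotientGroup.mk s', hyU, hy3, ?_, hcen, ?_⟩
  · obtain ⟨i, hi⟩ := Subgroup.mem_zpowers_iff.1 (hcen w fun u hu => (hwc u hu).symm)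
    have hyw : y ∈ Subgroup.zpowers w := by
      have h5 : Subgroup.zpowers w ≤ Subgroup.zpowers y := by
        rw [Subgroup.zpowers_le]
        exact ⟨i, hi⟩
      have h6 : Subgroup.zpowers w = Subgroup.zpowers y :=
        Subgroup.eq_of_le_of_card_ge h5 (by rw [Nat.card_zpowers, Nat.card_zpowers, hw, hord])
      rw [h6]
      exact Subgroup.mem_zpowers y
    obtain ⟨j, hj⟩ := Subgroup.mem_zpowers_iff.1 hyw
    intro u hu
    rw [← hj]
    exact ((show Commute u w from hwc u hu).zpow_right j).symm.eq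
  · rw [hy, ← QuotientGroup.mk_mul, ← QuotientGroup.mk_inv, ← QuotientGroup.mk_mul, s'_conj, QuotientGroup.mk_inv]

/-- **the centralizer of a Sylow 3-subgroup of `PΩ8+(3)`** -/
theorem main : ∃ (U : Sylow 3 (POmega (ZMod 3) (quadFormPlus 4 (ZMod 3))))
    (y s : POmega (ZMod 3) (quadFormPlus 4 (ZMod 3))), y ∈ U ∧ y ^ 3 = 1 ∧
    (∀ u ∈ U, y * u = u * y) ∧ (∀ g, (∀ u ∈ U, g * u = u * g) → g ∈ Subgroup.zpowers y) ∧ s * y * s⁻¹ = y⁻¹ := by
  rw [← coe_plusForm]
  exact main'

end Cfsg.Agent.H711.EvOmega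
end

-- part: H711/EvTwist
section
/-!
# Elements centralising a Sylow 3-subgroup of a normal subgroup with quotient `S3` are inverted by odd elements
-/

set_option autoImplicit false

open Subgroup

namespace Cfsg.Agent.H711.EvTwist

theorem perm_inv : ∀ a b : Equiv.Perm (Fin 3), a * a * a ≠ 1 → b * b * b = 1 → a * b * a⁻¹ = b⁻¹ := by decide +kernel

theorem cases_of_zpow {G : Type*} [Group G] {y w : G} (h3 : y ^ 3 = 1) (hw : w ∈ zpowers y) :
    w = 1 ∨ w = y ∨ w = y⁻¹ := by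
  obtain ⟨i, rfl⟩ := mem_zpowers_iff.1 hw
  have h1 : y ^ i = y ^ (i % 3) := by
    conv_lhs => rw [← Int.mul_ediv_add_emod i 3, zpow_add, zpow_mul]
    have : y ^ (3 : ℤ) = 1 := by exact_mod_cast h3
    rw [this, one_zpow, one_mul]
  have h2 := Int.emod_nonneg i (by norm_num : (3 : ℤ) ≠ 0)
  have h4 := Int.emod_lt_of_pos i (by norm_num : (0 : ℤ) < 3)
  rw [h1]
  obtain ⟨j, hj⟩ : ∃ j, j = i % 3 := ⟨_, rfl⟩
  rw [← hj] at h2 h4 ⊢
  interval_cases j
  · left; rw [zpow_zero]
  · right; left; rw [zpow_one]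
  · right; right
    rw [eq_inv_iff_mul_eq_one]
    have : y ^ (2 : ℤ) * y = y ^ 3 := by
      rw [pow_succ]; norm_cast
    rw [this, h3]

theorem odd_inv {H N0 : Type*} [Group H] [Finite H] [Group N0] (f : N0 →* H) (hf : Function.Injective f)
    (φ : H →* Equiv.Perm (Fin 3)) (hφ : ∀ x, φ x = 1 ↔ x ∈ f.range) (χ : H →* ℤˣ) (hχ : ∀ n, χ (f n) = 1)
    (hw : ∃ w, χ w = -1) (U : Sylow 3 N0) {y s : N0} (hyU : y ∈ U) (hy3 : y ^ 3 = 1)
    (hyc : ∀ u ∈ U, y * u = u * y) (hcen : ∀ g, (∀ u ∈ U, g * u = u * g) → g ∈ zpowers y)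
    (hs : s * y * s⁻¹ = y⁻¹) {q : H} (hq3 : q ^ 3 = 1) (hq : ∀ u ∈ U, q * f u = f u * q) :
    ∃ g, χ g = -1 ∧ g * q * g⁻¹ = q⁻¹ := by
  have h3 : Fact (Nat.Prime 3) := ⟨Nat.prime_three⟩
  have hfin : Finite N0 := Finite.of_injective f hf
  have hN : f.range.Normal := by
    have : f.range = φ.ker := by
      ext x
      rw [MonoidHom.mem_ker, hφ]
    rw [this]
    infer_instance
  -- Frattini
  let e : N0 ≃* f.range := MonoidHom.ofInjective hf
  let P : Sylow 3 f.range := U.mapSurjective (f := e.toMonoidHom) e.surjective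
  have hP : (P : Subgroup f.range).map f.range.subtype = (U : Subgroup N0).map f := by
    show ((U : Subgroup N0).map e.toMonoidHom).map f.range.subtype = _
    rw [Subgroup.map_map]
    rfl
  have hfr := Sylow.normalizer_sup_eq_top P
  rw [hP] at hfr
  obtain ⟨w, hw⟩ := hw
  obtain ⟨g0, hg0, n, hn, hgn⟩ := Subgroup.mem_sup_of_normal_right.1 (show w ∈ _ by rw [hfr]; exact mem_top w)
  have hχ0 : χ g0 = -1 := by
    have h1 : χ n = 1 := by
      obtain ⟨m, rfl⟩ := hn
      exact hχ m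
    rw [← hw, ← hgn, map_mul, h1, mul_one]
  -- an element of `N0` normalising `U` and inverting `y`
  obtain ⟨t, htU, hty⟩ : ∃ t : N0, t ∈ normalizer ((U : Subgroup N0) : Set N0) ∧ t * y * t⁻¹ = y⁻¹ := by
    obtain ⟨n, hn, hnz⟩ := Sylow.conj_eq_normalizer_conj_of_mem_centralizer U y s⁻¹
      (by rw [Subgroup.mem_centralizer_iff]; exact fun u hu => (hyc u hu).symm)
      (by
        rw [Subgroup.mem_centralizer_iff, inv_inv, hs]
        intro u hu
        exact ((show Commute y u from hyc u hu).inv_left).symm.eq)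
    rw [inv_inv, hs] at hnz
    exact ⟨n⁻¹, inv_mem hn, by rw [inv_inv]; exact hnz.symm⟩
  -- `g1`
  have hnorm : ∀ g, g ∈ normalizer (((U : Subgroup N0).map f : Subgroup H) : Set H) →
      ∀ x, (∀ u ∈ U, x * f u = f u * x) → ∀ u ∈ U, (g * x * g⁻¹) * f u = f u * (g * x * g⁻¹) := by
    intro g hg x hx u hu
    have h1 : g⁻¹ * f u * g ∈ (U : Subgroup N0).map f := by
      rw [mem_normalizer_iff] at hg
      rw [hg]
      have h2 : g * (g⁻¹ * f u * g) * g⁻¹ = f u := by group
      rw [h2]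
      exact mem_map_of_mem f hu
    obtain ⟨v, hv, hv'⟩ := h1
    have h2 : f u = g * f v * g⁻¹ := by rw [hv']; group
    rw [h2]
    calc g * x * g⁻¹ * (g * f v * g⁻¹) = g * (x * f v) * g⁻¹ := by group
      _ = g * (f v * x) * g⁻¹ := by rw [hx v hv]
      _ = g * f v * g⁻¹ * (g * x * g⁻¹) := by group
  have hin : ∀ x, x ∈ f.range → (∀ u ∈ U, x * f u = f u * x) → x = 1 ∨ x = f y ∨ x = (f y)⁻¹ := by
    rintro _ ⟨x, rfl⟩ hx
    have h1 := cases_of_zpow hy3 (hcen x fun u hu => hf (by rw [map_mul, map_mul]; exact hx u hu))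
    rcases h1 with rfl | rfl | rfl
    · left; exact map_one f
    · right; left; rfl
    · right; right; exact map_inv f y
  have hyf : ∀ u ∈ U, f y * f u = f u * f y := fun u hu => by rw [← map_mul, ← map_mul, hyc u hu]
  obtain ⟨g1, hg1, hχ1, hgy⟩ : ∃ g1, g1 ∈ normalizer (((U : Subgroup N0).map f : Subgroup H) : Set H) ∧ χ g1 = -1 ∧
      g1 * f y * g1⁻¹ = (f y)⁻¹ := by
    have h1 := hin (g0 * f y * g0⁻¹) (hN.conj_mem _ ⟨y, rfl⟩ _) (hnorm g0 hg0 _ hyf)
    have h2 : g0 * f y * g0⁻¹ = 1 → f y = 1 := fun h => by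
      rw [mul_inv_eq_one] at h
      exact mul_left_cancel (h.trans (mul_one g0).symm)
    rcases h1 with h1 | h1 | h1
    · refine ⟨g0, hg0, hχ0, ?_⟩
      rw [h1, h2 h1, inv_one]
    · refine ⟨g0 * f t, mul_mem hg0 ?_, by rw [map_mul, hχ, hχ0, mul_one], ?_⟩
      · rw [mem_normalizer_iff] at htU ⊢
        intro x
        constructor
        · rintro ⟨u, hu, rfl⟩
          exact ⟨t * u * t⁻¹, (htU u).1 hu, by rw [map_mul, map_mul, map_inv]⟩
        · rintro ⟨u, hu, hu'⟩
          have hx : x = f (t⁻¹ * u * t) := by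
            rw [map_mul, map_mul, map_inv, hu']; group
          rw [hx]
          refine mem_map_of_mem f ((htU _).2 ?_)
          have : t * (t⁻¹ * u * t) * t⁻¹ = u := by group
          rw [this]
          exact hu
      · have h3 : g0 * f t * f y * (g0 * f t)⁻¹ = g0 * f (t * y * t⁻¹) * g0⁻¹ := by
          rw [map_mul, map_mul, map_inv]; group
        have h4 : g0 * (f y)⁻¹ * g0⁻¹ = (g0 * f y * g0⁻¹)⁻¹ := by group
        rw [h3, hty, map_inv, h4, h1]
    · exact ⟨g0, hg0, hχ0, h1⟩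
  -- `φ g1` inverts `φ q`
  have hφ1 : φ g1 * φ q * (φ g1)⁻¹ = (φ q)⁻¹ := by
    apply perm_inv
    · intro h
      rw [← map_mul, ← map_mul, hφ] at h
      obtain ⟨m, hm⟩ := h
      have h1 := hχ m
      rw [hm, map_mul, map_mul, hχ1] at h1
      exact absurd h1 (by decide)
    · rw [← map_mul, ← map_mul]
      have : q * q * q = 1 := by rw [← hq3, pow_succ, pow_two]
      rw [this, map_one]
  obtain ⟨c, hc⟩ : ∃ c, c = q * (g1 * q * g1⁻¹) := ⟨_, rfl⟩
  have hc1 : c ∈ f.range := by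
    rw [← hφ, hc, map_mul, map_mul, map_mul, map_inv, hφ1, mul_inv_cancel]
  have hcU : ∀ u ∈ U, c * f u = f u * c := by
    intro u hu
    rw [hc]
    exact ((show Commute q (f u) from hq u hu).mul_left (show Commute (g1 * q * g1⁻¹) (f u) from
      hnorm g1 hg1 q hq u hu)).eq
  have hcases := hin c hc1 hcU
  have hqy : Commute q (f y) := hq y hyU
  have hfy3 : (f y) ^ 3 = 1 := by rw [← map_pow, hy3, map_one]
  have hqc : Commute q c := by
    rcases hcases with h | h | h
    · rw [h]; exact Commute.one_right q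
    · rw [h]; exact hqy
    · rw [h]; exact hqy.inv_right
  have hgc : g1 * c * g1⁻¹ = c⁻¹ := by
    rcases hcases with h | h | h
    · rw [h]; group
    · rw [h, hgy]
    · have h4 : g1 * (f y)⁻¹ * g1⁻¹ = (g1 * f y * g1⁻¹)⁻¹ := by group
      rw [h, h4, hgy]
  have hc3 : c ^ 3 = 1 := by
    rcases hcases with h | h | h
    · rw [h, one_pow]
    · rw [h, hfy3]
    · rw [h, inv_pow, hfy3, inv_one]
  have hα : g1 * q * g1⁻¹ = q⁻¹ * c := by rw [hc]; group
  refine ⟨g1 * g1 * g1, by rw [map_mul, map_mul, hχ1]; decide, ?_⟩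
  obtain ⟨A, hA⟩ : ∃ A : MulAut H, A = MulAut.conj g1 := ⟨_, rfl⟩
  have hA' : ∀ x, A x = g1 * x * g1⁻¹ := fun x => by rw [hA, MulAut.conj_apply]
  have hAq : A q = q⁻¹ * c := by rw [hA', hα]
  have hAc : A c = c⁻¹ := by rw [hA', hgc]
  have h1 : g1 * g1 * g1 * q * (g1 * g1 * g1)⁻¹ = A (A (A q)) := by
    rw [hA', hA', hA']; group
  have h2 : A (A q) = q * c⁻¹ * c⁻¹ := by
    rw [hAq, map_mul, map_inv, hAq, hAc, mul_inv_rev, inv_inv, hqc.inv_right.eq]
  rw [h1, h2, map_mul, map_mul, map_inv, hAq, hAc, inv_inv, mul_assoc, mul_assoc, ← mul_assoc c c c]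
  have h5 : c * c * c = 1 := by rw [← hc3, pow_succ, pow_two]
  rw [h5, mul_one]

end Cfsg.Agent.H711.EvTwist
end

-- part: H711/EvFiTF
section
/-!
# The row of S3855 for `Fi24'`, `p = 3`
-/

set_option autoImplicit false

open Subgroup

namespace Cfsg.Agent.H711.EvFiTF

open Cfsg Cfsg.Agent.H711.Crit Cfsg.Agent.H457.Odd Cfsg.Agent.H467.OddNorm
open Cfsg.Agent.Fischer480.Defs Cfsg.Agent.R08 Cfsg.Agent.R08.FiTwentyFour
open Cfsg.Agent.Fischer.Fi24Class (gen gen_sq)
open Cfsg.Agent.H830.Con24 Cfsg.Agent.H830.Type24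
open Cfsg.Agent.H711.FiThreeRow

theorem evIn_fi24 : EvIn 3 Spor.Fi24' := by
  have : Fact (Nat.Prime 3) := ⟨Nat.prime_three⟩
  have := finite_Fi24
  obtain ⟨d, hd, c, hc, hdc⟩ : ∃ d ∈ L, ∃ c ∈ L, ¬ Commute d c := by
    obtain ⟨c, hc, h⟩ := exists_pair
    exact ⟨_, gen_mem_L .l, c, hc, h⟩
  have htri := tri_com fgroup isT8 hd hc hdc
  have hcard := card_two fgroup isT8 hd hc hdc
  have hcl := closure_com hd hc hdc
  rw [← hcl] at hcard
  obtain ⟨H, hH⟩ : ∃ H, H = _root_.Subgroup.closure (Com L d c) := ⟨_, rfl⟩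
  rw [← hH] at htri hcard hcl
  obtain ⟨N, hN, ⟨e⟩, ⟨q⟩⟩ := htri
  have h2 := N.card_eq_card_quotient_mul_card_subgroup
  rw [Nat.card_congr q.toEquiv, Nat.card_congr e.toEquiv, H830.TriMain.card_pomega, Nat.card_perm, Nat.card_fin,
    show Nat.factorial 3 = 6 from rfl] at h2
  -- the center is trivial
  have hcen : center ↥H = ⊥ := by
    have h3 := (center ↥H).card_eq_card_quotient_mul_card_subgroup
    rw [h2, hcard] at h3
    rw [← Subgroup.card_eq_one]
    have h4 : Nat.card ↥(center ↥H) * (6 * 4952179814400) = 1 * (6 * 4952179814400) := by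
      rw [one_mul, mul_comm]; exact h3.symm
    exact Nat.eq_of_mul_eq_mul_right (by norm_num) h4
  let π : ↥H →* ↥H ⧸ center ↥H := QuotientGroup.mk' (center ↥H)
  have hπ : Function.Injective π := by
    rw [← MonoidHom.ker_eq_bot_iff, QuotientGroup.ker_mk', hcen]
  let E : ↥H ≃* ↥H ⧸ center ↥H := MulEquiv.ofBijective π ⟨hπ, QuotientGroup.mk'_surjective _⟩
  let f0 : POmega (ZMod 3) (quadFormPlus 4 (ZMod 3)) →* ↥H :=
    E.symm.toMonoidHom.comp (N.subtype.comp e.symm.toMonoidHom)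
  have hf0 : Function.Injective f0 := E.symm.injective.comp (N.subtype_injective.comp e.symm.injective)
  let φ : ↥H →* Equiv.Perm (Fin 3) := q.toMonoidHom.comp ((QuotientGroup.mk' N).comp π)
  have hker : ∀ x : ↥H, φ x = 1 → x ∈ f0.range := by
    intro x hx
    have h3 : (QuotientGroup.mk' N) (π x) = 1 := q.injective (by rw [map_one]; exact hx)
    have h4 : π x ∈ N := (QuotientGroup.eq_one_iff _).1 h3
    refine ⟨e ⟨π x, h4⟩, ?_⟩
    show E.symm (N.subtype (e.symm (e ⟨π x, h4⟩))) = x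
    rw [MulEquiv.symm_apply_apply]
    exact E.symm_apply_apply x
  have hker' : ∀ x : ↥H, φ x = 1 ↔ x ∈ f0.range := by
    intro x
    refine ⟨hker x, ?_⟩
    rintro ⟨y, rfl⟩
    show q ((QuotientGroup.mk' N) (π (f0 y))) = 1
    have h3 : π (f0 y) = N.subtype (e.symm y) := E.apply_symm_apply _
    have h4 : (QuotientGroup.mk' N) (N.subtype (e.symm y)) = 1 := (QuotientGroup.eq_one_iff _).2 (e.symm y).2
    rw [h3, h4, map_one]
  -- the sign
  have hs := H830.TriMain.simple_pomega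
  let χ : ↥H →* ℤˣ := Cfsg.Agent.Fischer.Fi24Final.sgn.comp H.subtype
  have hsg : ∀ y, χ (f0 y) = 1 := by
    let ρ : POmega (ZMod 3) (quadFormPlus 4 (ZMod 3)) →* ℤˣ := χ.comp f0
    rcases hs.eq_bot_or_eq_top_of_normal ρ.ker inferInstance with h | h
    · exfalso
      have h3 : Function.Injective ρ := (MonoidHom.ker_eq_bot_iff ρ).1 h
      have h4 := Nat.card_le_card_of_injective ρ h3
      rw [H830.TriMain.card_pomega] at h4
      have h5 : Nat.card ℤˣ = 2 := by rw [Nat.card_eq_fintype_card]; rfl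
      rw [h5] at h4
      norm_num at h4
    · intro y
      have h3 : y ∈ ρ.ker := by rw [h]; exact mem_top y
      exact h3
  have hodd : ∃ w, χ w = -1 := by
    obtain ⟨w, hw⟩ : (Com L d c).Nonempty := by
      rw [Set.nonempty_iff_ne_empty]
      intro h4
      have h5 : Nat.card ↥H = 1 := by
        rw [hH, h4, Subgroup.closure_empty]
        exact Subgroup.card_bot
      rw [hcard] at h5
      norm_num at h5
    exact ⟨⟨w, by rw [hH]; exact _root_.Subgroup.subset_closure hw⟩, sgn_L hw.1⟩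
  obtain ⟨U, y, s, hyU, hy3, hyc, hycen, hsy⟩ := EvOmega.main
  let f : POmega (ZMod 3) (quadFormPlus 4 (ZMod 3)) →* Spor.Fi24' :=
    (H.subtype.comp f0).codRestrict (commutator Spor.Fi24) fun y => mem_commutator_iff.2 (hsg y)
  -- the element of order three
  have htm : d * c ∈ commutator Spor.Fi24 := by
    rw [mem_commutator_iff, map_mul, sgn_L hd, sgn_L hc]
    rfl
  let t : Spor.Fi24' := ⟨d * c, htm⟩
  have ht3 : (d * c) ^ 3 = 1 := Cfsg.Agent.H840.NormX.cube (Cfsg.Agent.H840.NormX.fd fgroup) hd hc hdc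
  have hHc : ∀ x : ↥H, (x : Spor.Fi24) * d = d * x ∧ (x : Spor.Fi24) * (d * c) = d * c * x := by
    intro x
    have h3 : (x : Spor.Fi24) ∈ centralizer ({c} : Set Spor.Fi24) ⊓ centralizer ({d} : Set Spor.Fi24) := by
      rw [← hcl]; exact x.2
    have h4 := mem_centralizer_singleton_iff.1 h3.1
    have h5 := mem_centralizer_singleton_iff.1 h3.2
    exact ⟨h5, by rw [← mul_assoc, h5, mul_assoc, h4, mul_assoc]⟩
  have hft : ∀ k, f k * t = t * f k := fun k => Subtype.ext (hHc (f0 k)).2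
  have hpt : IsPGroup 3 (zpowers t) := by
    rintro ⟨x, hx⟩
    obtain ⟨i, rfl⟩ := mem_zpowers_iff.1 hx
    refine ⟨1, Subtype.ext ?_⟩
    show (t ^ i) ^ (3 ^ 1) = 1
    have h3 : t ^ 3 = 1 := Subtype.ext ht3
    rw [pow_one, ← zpow_natCast, ← zpow_mul, mul_comm, zpow_mul, zpow_natCast, h3, one_zpow]
  have hR : IsPGroup 3 ↥((U : Subgroup _).map f) := U.isPGroup'.map _
  have hNorm : (U : Subgroup _).map f ≤ normalizer (zpowers t : Set Spor.Fi24') := by
    rintro _ ⟨r, -, rfl⟩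
    refine mem_normalizer_of_forall fun x hx => ?_
    obtain ⟨i, rfl⟩ := hx
    have h1 : Commute (f r) (t ^ i) := (show Commute (f r) t from hft r).zpow_right i
    show f r * t ^ i * (f r)⁻¹ ∈ _
    rw [h1.eq, mul_inv_cancel_right]
    exact ⟨i, rfl⟩
  have hsup : IsPGroup 3 ↥((U : Subgroup _).map f ⊔ zpowers t) := IsPGroup.to_sup_of_normal_right' hR hpt hNorm
  obtain ⟨P, hP⟩ := hsup.exists_le_sylow
  -- a central element
  have hdvd : 3 ∣ Nat.card Spor.Fi24' := by
    have hc : Nat.card Spor.Fi24' = _ := NotCT.Orders.fi24 ⟨MulEquiv.refl _⟩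
    rw [hc]
    norm_num
  obtain ⟨z, hzP, hz, hzc⟩ := exists_central P hdvd
  have hz3 : z ^ 3 = 1 := by rw [← hz, pow_orderOf_eq_one]
  have hz1 : z ≠ 1 := by
    intro h0
    rw [h0, orderOf_one] at hz
    norm_num at hz
  refine evIn_of_real (by norm_num) P hzP hz1 hzc ?_
  have hzt : Commute (z : Spor.Fi24) (d * c) := congrArg Subtype.val (hzc t (hP (mem_sup_right (mem_zpowers t)))).symm
  obtain ⟨x, hx, y', hy', hxy⟩ := Cfsg.Agent.H840.NormX.cent_mul fgroup hd hc hdc hzt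
  have hyH : y' ∈ H := by
    rw [hcl]
    exact ⟨mem_centralizer_singleton_iff.2 (mem_centralizer_iff.1 hy' c (by simp)).symm,
      mem_centralizer_singleton_iff.2 (mem_centralizer_iff.1 hy' d (by simp)).symm⟩
  have hxH : ∀ h : ↥H, Commute x (h : Spor.Fi24) := by
    intro h
    obtain ⟨i, rfl⟩ := mem_zpowers_iff.1 hx
    exact ((show Commute (h : Spor.Fi24) (d * c) from (hHc h).2).symm).zpow_left i
  have hxyc : Commute x y' := hxH ⟨y', hyH⟩
  have hx3 : x ^ 3 = 1 := by
    obtain ⟨i, rfl⟩ := mem_zpowers_iff.1 hx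
    rw [← zpow_natCast, ← zpow_mul, mul_comm, zpow_mul, zpow_natCast, ht3, one_zpow]
  let qH : ↥H := ⟨y', hyH⟩
  have hq3 : qH ^ 3 = 1 := by
    apply Subtype.ext
    have h3 : (z : Spor.Fi24) ^ 3 = 1 := congrArg Subtype.val hz3
    rw [hxy, hxyc.mul_pow, hx3, one_mul] at h3
    exact h3
  have hqU : ∀ u ∈ U, qH * f0 u = f0 u * qH := by
    intro u hu
    have h3 := congrArg Subtype.val (hzc (f u) (hP (mem_sup_left (mem_map_of_mem f hu))))
    have h4 : ((f0 u : ↥H) : Spor.Fi24) * z = z * f0 u := h3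
    apply Subtype.ext
    show y' * (f0 u : Spor.Fi24) = f0 u * y'
    rw [hxy] at h4
    have h5 := hxH (f0 u)
    have h6 : x * (f0 u * y') = x * (y' * f0 u) := by
      rw [← mul_assoc, h5.eq, mul_assoc, h4, mul_assoc]
    exact (mul_left_cancel h6).symm
  obtain ⟨g, hg, hgq⟩ := EvTwist.odd_inv f0 hf0 φ hker' χ hsg hodd U hyU hy3 hyc hycen hsy hq3 hqU
  have hg' : (g : Spor.Fi24) * y' * (g : Spor.Fi24)⁻¹ = y'⁻¹ := congrArg Subtype.val hgq
  -- the inverting element
  have hdm : d * g ∈ commutator Spor.Fi24 := by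
    have h3 : Cfsg.Agent.Fischer.Fi24Final.sgn (g : Spor.Fi24) = -1 := hg
    rw [mem_commutator_iff, map_mul, sgn_L hd, h3]
    rfl
  have hd2 : d * d = 1 := (Cfsg.Agent.H840.NormX.fd fgroup).sq d hd
  have hc2 : c * c = 1 := (Cfsg.Agent.H840.NormX.fd fgroup).sq c hc
  have hdi : d⁻¹ = d := inv_eq_of_mul_eq_one_left hd2
  have hci : c⁻¹ = c := inv_eq_of_mul_eq_one_left hc2
  have hdt : d * (d * c) * d⁻¹ = (d * c)⁻¹ := by
    rw [mul_inv_rev, hdi, hci, ← mul_assoc, hd2, one_mul]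
  have hdx : d * x * d⁻¹ = x⁻¹ := by
    obtain ⟨i, rfl⟩ := mem_zpowers_iff.1 hx
    rw [← conj_zpow, hdt, inv_zpow]
  refine isConj_iff.2 ⟨⟨d * g, hdm⟩, Subtype.ext ?_⟩
  show d * g * z * (d * g)⁻¹ = (z : Spor.Fi24)⁻¹
  have h7 : d * g * z * (d * g)⁻¹ = (d * ((g : Spor.Fi24) * x * (g : Spor.Fi24)⁻¹) * d⁻¹) *
      (d * ((g : Spor.Fi24) * y' * (g : Spor.Fi24)⁻¹) * d⁻¹) := by
    rw [hxy]; group
  have h8 : (g : Spor.Fi24) * x * (g : Spor.Fi24)⁻¹ = x := by
    rw [← (hxH g).eq, mul_inv_cancel_right]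
  have h9 : d * y'⁻¹ * d⁻¹ = y'⁻¹ := by
    have h10 : Commute (y' : Spor.Fi24) d := (hHc ⟨y', hyH⟩).1
    rw [← h10.inv_left.eq, mul_inv_cancel_right]
  rw [h7, h8, hg', hdx, h9, hxy, ← mul_inv_rev, hxyc.eq]

universe u

theorem ev_fi24 {K : Type u} [Group K] [IsSimpleGroup K] (h : Spor.IsoFi24' K) : Ev 3 K := by
  have hc : Nat.card Spor.Fi24' = _ := NotCT.Orders.fi24 ⟨MulEquiv.refl _⟩
  have : Finite Spor.Fi24' := Nat.finite_of_card_ne_zero (by rw [hc]; norm_num)
  obtain ⟨e⟩ := h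
  exact EvA.ev_of e (RowsA.not_prime (by rw [hc]; norm_num)) S2081.result (by norm_num) evIn_fi24

end Cfsg.Agent.H711.EvFiTF
end

-- part: H457/Odd/RowTh
section
/-!
# S3855, `p = 3`: the Thompson group (helper457)

An involution normalises a Sylow `3`-subgroup (helper502).
-/

set_option autoImplicit false

open Cfsg Subgroup

namespace Cfsg.Agent.H457.Odd.RowTh

open Cfsg.Agent.H467.OddNorm Cfsg.Agent.H457.Odd
open Cfsg.Agent.H502.ThKlein Cfsg.Agent.H502.ThFlag Cfsg.Agent.H502.ThThree Cfsg.Agent.Th.Gen248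
  Cfsg.Agent.Th.Hom248 Cfsg.Agent.Th

theorem evIn_th : EvIn 3 Cfsg.Spor.Th := by
  have h3 : Fact (Nat.Prime 3) := ⟨Nat.prime_three⟩
  obtain ⟨S, hS⟩ := card_three (k := 10) isPGroup_S3 dvd_card_S3 (by norm_num)
  have hu2 : el [.a] * el [.a] = 1 := el_eq a_sq (rho_mul (rho_gen _) (rho_gen _)) rho_one
  have hu1 : el [.a] ≠ 1 := glW_ne a_ne (rho_gen _) rho_one
  have ho : orderOf (el [.a]) = 2 := orderOf_eq_prime (by rw [pow_two, hu2]) hu1
  refine evIn_of_even S (h := el [.a]) (by rw [ho]; exact even_two) fun x hx => ?_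
  have hx' : x ∈ S3 := by rw [← hS]; exact hx
  have := norm_S3 ta hx'
  rw [← hS] at this
  exact this

theorem th_three {K : Type*} [Group K] (h : Spor.IsoTh K) : EvIn 3 K := by
  have h3 : Fact (Nat.Prime 3) := ⟨Nat.prime_three⟩
  obtain ⟨e⟩ := h
  exact evIn_th.congr e.symm

end Cfsg.Agent.H457.Odd.RowTh
end

private theorem dce_8cb113e61c34 : _root_.True := by
  try have : _root_.True := by simp only [_root_.Cfsg.Agent.H711.EvOmega.sw.eq_1]
  try have : _root_.True := by simp only [_root_.Cfsg.Agent.H711.EvOmega.Nm.eq_1]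
  try have : _root_.True := by simp only [_root_.Cfsg.Agent.H711.EvOmega.f.eq_1]
  try have : _root_.True := by simp only [_root_.Cfsg.Agent.H711.EvOmega.N1.eq_1]
  try have : _root_.True := by simp only [_root_.Cfsg.Agent.H711.EvOmega.e.eq_1]
  try have : _root_.True := by simp only [_root_.Cfsg.Agent.H711.EvOmega.sg.eq_1]
  try have : _root_.True := by simp only [_root_.Cfsg.Agent.H711.EvOmega.dv.eq_1]
  try have : _root_.True := by simp only [_root_.Cfsg.Agent.H711.EvOmega.swM.eq_1]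
  exact _root_.True.intro
end

-- part: H457/Odd/RowB
section
set_option linter.all false
open scoped Cfsg.Agent.FastGrp

-- part: H457/Odd/RowHN
section
/-!
# S3855, `p = 5`: the Harada-Norton group (helper457)

An involution normalises a Sylow `5`-subgroup (helper569).
-/

set_option autoImplicit false

open Subgroup

namespace Cfsg.Agent.H457.Odd.RowHN

open Cfsg Cfsg.Agent.H467.OddNorm Cfsg.Agent.H457.Odd

theorem evIn_hn : EvIn 5 Cfsg.Spor.HN := by
  obtain ⟨a, b, hab⟩ := H569.HNFive.exists_pair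
  obtain ⟨v, hv, hva, hvb⟩ := hab.exists_v
  obtain ⟨S, hW, -⟩ := hab.exists_sylow hv hva hvb
  exact ⟨S, _, Cfsg.Agent.CpAutHNFive.TFive.order_W0, hW⟩

theorem hn_five {K : Type*} [Group K] (h : Spor.IsoHN K) : EvIn 5 K := by
  have hp : Fact (Nat.Prime 5) := ⟨Nat.prime_five⟩
  have hfin : Finite Cfsg.Spor.HN := Nat.finite_of_card_ne_zero (by rw [S1701.result.2]; norm_num)
  obtain ⟨e⟩ := h
  exact evIn_hn.congr e.symm

end Cfsg.Agent.H457.Odd.RowHN
end

-- part: H457/Odd/RowB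
section
/-!
# S3855, `p = 5`: the Baby Monster (helper457)

`HN ≤ B` has index prime to `5`.
-/

set_option autoImplicit false

open Subgroup

namespace Cfsg.Agent.H457.Odd.RowB

open Cfsg Cfsg.Agent.H467.OddNorm Cfsg.Agent.H457.Odd

theorem evIn_b : EvIn 5 Cfsg.Spor.BabyMonster := by
  have hp : Fact (Nat.Prime 5) := ⟨Nat.prime_five⟩
  obtain ⟨f, hf⟩ := H569.BFive.exists_hom
  have hB : Nat.card Cfsg.Spor.BabyMonster = 4154781481226426191177580544000000 := BM.KHAll.card_B
  have hfin : Finite Cfsg.Spor.BabyMonster := Nat.finite_of_card_ne_zero (by rw [hB]; norm_num)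
  refine evIn_of_injective_card f hf (n := 6) (by rw [hB]; norm_num) (by rw [S1701.result.2]; norm_num) RowHN.evIn_hn

theorem b_five {K : Type*} [Group K] (h : Spor.IsoB K) : EvIn 5 K := by
  have hp : Fact (Nat.Prime 5) := ⟨Nat.prime_five⟩
  have hB : Nat.card Cfsg.Spor.BabyMonster = 4154781481226426191177580544000000 := BM.KHAll.card_B
  have hfin : Finite Cfsg.Spor.BabyMonster := Nat.finite_of_card_ne_zero (by rw [hB]; norm_num)
  obtain ⟨e⟩ := h
  exact evIn_b.congr e.symm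

end Cfsg.Agent.H457.Odd.RowB
end
end

-- part: H711/EvMon
section
set_option linter.all false
open scoped Cfsg.Agent.FastGrp

/-!
# Involutions normalising a Sylow 3-subgroup: the Monster
-/

set_option autoImplicit false
set_option maxRecDepth 100000

namespace Cfsg.Agent.H711.EvMon

open Cfsg Cfsg.Agent.LThreeMB Cfsg.Agent.H711.Crit
open Cfsg.Agent.MonsterU.Ch
open Cfsg.Agent.MonsterU.Lam2 (L2 IsType)
open Cfsg.Agent.MonsterX Cfsg.Agent.MonsterP Cfsg.Agent.MonsterN Cfsg.Agent.MonsterX.InstData Cfsg.Agent.MonsterX.MainPack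
open Cfsg.Spor (Co1)
open Subgroup (centralizer zpowers mem_centralizer_singleton_iff)
open Cfsg.Agent.H711.MonReal Cfsg.Agent.H457.Odd Cfsg.Agent.H467.OddNorm

theorem evIn_model : EvIn 3 ↥InstData.M.G := by
  have := Row.finite_model
  have := Row.simple_model
  have : Fact (Nat.Prime 3) := ⟨Nat.prime_three⟩
  have h := KChart.chart KDone.lft Row.cent
  have I := CoOneFin.coOne
  obtain ⟨x, hx, hF⟩ := exists_fi24 h I
  have hx3 : x ^ 3 = 1 := by rw [← hx, pow_orderOf_eq_one]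
  refine evIn_of_comm_real (by norm_num) hx fun w hw hwx => ?_
  have hw3 : w ^ 3 = 1 := by rw [← hw, pow_orderOf_eq_one]
  obtain ⟨t, htt, ht1, -, htw⟩ := even_of_XX hx3 hw3 hwx fun g hg => even_of_iso hF hg
  obtain ⟨g, hg⟩ := LThreeM.FiRow.exists_z_of_comm hw3 htt ht1 htw.symm
  exact real_of_comm h I hw hg

theorem evIn_monster : EvIn 3 Spor.Monster := by
  have := Row.finite_model
  have : Fact (Nat.Prime 3) := ⟨Nat.prime_three⟩
  obtain ⟨f⟩ := Cfsg.Agent.MonsterP.Equiv.equiv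
  exact EvIn.congr f.symm evIn_model

end Cfsg.Agent.H711.EvMon
end
end
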